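import Mathlib
import Cfsg.Agent.Helper8.SURootC

set_option autoImplicit false
set_option linter.unusedSectionVars false

/-!
# S2282 swarm (architect helper8): Siegel elements of `SU_N(q)`

`Sg q p w c : x ↦ x + h(x,p) w − h(x,w) p + c h(x,p) p` for `p` isotropic, `w ⟂ p`,
`c + c^q + h(w,w) = 0` (`h = hermForm N F q`).  They form the unipotent radical of the stabiliser of
the isotropic point `⟨p⟩`; `Sg q p 0 s = TU q p s` are the unitary transvections.
-/

namespace Cfsg.Agent.SUTri

open Matrix Cfsg Cfsg.Agent.Helper7.Herm Cfsg.Agent.Helper8.GUOrder Cfsg.Agent.Helper8.SURoot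

variable {F : Type*} [Field F] [Fintype F] {q N : ℕ}

/-- the matrix of `x ↦ x + h(x,p) w − h(x,w) p + c h(x,p) p`. -/
def sgMat (q : ℕ) (p w : Fin N → F) (c : F) : Matrix (Fin N) (Fin N) F :=
  1 + vecMulVec (w + c • p) (fr q p) + vecMulVec (-p) (fr q w)

theorem sgMat_mulVec (p w : Fin N → F) (c : F) (x : Fin N → F) :
    sgMat q p w c *ᵥ x = x + hermForm N F q x p • w - hermForm N F q x w • p
      + (c * hermForm N F q x p) • p := by
  unfold sgMat
  rw [add_mulVec, add_mulVec, one_mulVec, vecMulVec_mulVec, vecMulVec_mulVec, op_smul_eq_smul,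
    op_smul_eq_smul, fr_dot, fr_dot]
  module

/-- the admissibility condition for a Siegel element. -/
def SgOK (q : ℕ) (p w : Fin N → F) (c : F) : Prop :=
  hermForm N F q p p = 0 ∧ hermForm N F q w p = 0 ∧ c + c ^ q + hermForm N F q w w = 0

theorem sgMat_det {p w : Fin N → F} {c : F} (hp : hermForm N F q p p = 0)
    (hw : hermForm N F q w p = 0) (hpw : hermForm N F q p w = 0) : (sgMat q p w c).det = 1 := by
  have e : sgMat q p w c = 1 +
      (Matrix.of fun (i : Fin N) (k : Fin 2) => ![(w + c • p) i, (-p) i] k) *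
      (Matrix.of fun (k : Fin 2) (j : Fin N) => ![fr q p j, fr q w j] k) := by
    unfold sgMat
    rw [add_assoc]
    congr 1
    ext i j
    simp [Matrix.mul_apply, Fin.sum_univ_two, vecMulVec_apply]
  rw [e, det_one_add_mul_comm]
  have h00 : fr q p ⬝ᵥ (w + c • p) = 0 := by
    rw [fr_dot, hermForm_add_left, hermForm_smul_left, hw, hp, mul_zero, add_zero]
  have h01 : fr q p ⬝ᵥ (-p) = 0 := by
    rw [fr_dot]
    have := hermForm_smul_left (n := N) (q := q) (-1 : F) p p
    rw [neg_one_smul] at this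
    rw [this, hp, mul_zero]
  have h11 : fr q w ⬝ᵥ (-p) = 0 := by
    rw [fr_dot]
    have := hermForm_smul_left (n := N) (q := q) (-1 : F) p w
    rw [neg_one_smul] at this
    rw [this, hpw, mul_zero]
  have e2 : (1 + (Matrix.of fun (k : Fin 2) (j : Fin N) => ![fr q p j, fr q w j] k) *
      (Matrix.of fun (i : Fin N) (k : Fin 2) => ![(w + c • p) i, (-p) i] k))
      = !![1, 0; fr q w ⬝ᵥ (w + c • p), 1] := by
    ext a b
    fin_cases a <;> fin_cases b
    · simpa [Matrix.mul_apply, dotProduct] using h00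
    · simpa [Matrix.mul_apply, dotProduct] using h01
    · simp [Matrix.mul_apply, dotProduct]
    · simpa [Matrix.mul_apply, dotProduct] using h11
  rw [e2, det_fin_two_of]
  ring

variable [hF : Fact (Fintype.card F = q ^ 2)]

theorem herm_conj (u v : Fin N → F) : hermForm N F q u v ^ q = hermForm N F q v u :=
  (hermForm_swap hF.out v u).symm

theorem herm_eq_zero_symm {u v : Fin N → F} (h : hermForm N F q u v = 0) :
    hermForm N F q v u = 0 := by
  rw [← herm_conj, h, zero_pow]
  have := one_le_q hF.out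
  omega

theorem herm_neg_left (u v : Fin N → F) : hermForm N F q (-u) v = -hermForm N F q u v := by
  have := hermForm_smul_left (n := N) (q := q) (-1 : F) u v
  rwa [neg_one_smul, neg_one_mul] at this

theorem herm_neg_right (u v : Fin N → F) : hermForm N F q u (-v) = -hermForm N F q u v := by
  have := hermForm_smul_right (n := N) (q := q) (-1 : F) u v
  rwa [neg_one_smul, neg_one_pow_q hF.out, neg_one_mul] at this

theorem herm_self_fixed (w : Fin N → F) : hermForm N F q w w ^ q = hermForm N F q w w :=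
  herm_conj w w

/-- the isometry property of the Siegel matrix. -/
theorem sgMat_herm {p w : Fin N → F} {c : F} (h : SgOK q p w c) (x y : Fin N → F) :
    hermForm N F q (sgMat q p w c *ᵥ x) (sgMat q p w c *ᵥ y) = hermForm N F q x y := by
  obtain ⟨hp, hw, hc⟩ := h
  have hpw := herm_eq_zero_symm hw
  rw [sgMat_mulVec, sgMat_mulVec]
  simp only [hermForm_add_left, hermForm_sub_left, hermForm_smul_left, hermForm_add_right hF.out,
    hermForm_sub_right hF.out, hermForm_smul_right, hp, hw, hpw, mul_zero, add_zero, sub_zero,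
    mul_pow]
  have e1 : hermForm N F q w y = hermForm N F q y w ^ q := (herm_conj y w).symm
  have e2 : hermForm N F q p y = hermForm N F q y p ^ q := (herm_conj y p).symm
  rw [e1, e2]
  linear_combination (hermForm N F q x p * hermForm N F q y p ^ q) * hc

/-- the Siegel element `x ↦ x + h(x,p) w − h(x,w) p + c h(x,p) p` as an element of `SU`
(the identity when the parameters are not admissible). -/
noncomputable def Sg (q : ℕ) [hF : Fact (Fintype.card F = q ^ 2)] (p w : Fin N → F) (c : F) :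
    SU N F q :=
  haveI := Classical.propDecidable (SgOK q p w c)
  if h : SgOK q p w c then
    ⟨⟨sgMat q p w c, sgMat_det h.1 h.2.1 (herm_eq_zero_symm h.2.1)⟩, fun u v => sgMat_herm h u v⟩
  else 1

theorem Sg_mulVec {p w : Fin N → F} {c : F} (h : SgOK q p w c) (x : Fin N → F) :
    mt (Sg q p w c) *ᵥ x = x + hermForm N F q x p • w - hermForm N F q x w • p
      + (c * hermForm N F q x p) • p := by
  unfold Sg
  rw [dif_pos h]
  exact sgMat_mulVec p w c x

theorem SgOK.map {p w : Fin N → F} {c : F} (h : SgOK q p w c) (g : SU N F q) :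
    SgOK q (mt g *ᵥ p) (mt g *ᵥ w) c := by
  obtain ⟨hp, hw, hc⟩ := h
  exact ⟨by rw [herm_mt, hp], by rw [herm_mt, hw], by rw [herm_mt]; exact hc⟩

/-- conjugation of Siegel elements. -/
theorem conj_Sg (g : SU N F q) {p w : Fin N → F} {c : F} (h : SgOK q p w c) :
    g * Sg q p w c * g⁻¹ = Sg q (mt g *ᵥ p) (mt g *ᵥ w) c := by
  apply ext_mulVec
  intro v
  rw [mt_mul_mulVec, mt_mul_mulVec, Sg_mulVec h, Sg_mulVec (h.map g)]
  simp only [mulVec_add, mulVec_sub, mulVec_smul, mt_inv_mulVec]
  have e1 : hermForm N F q (mt g⁻¹ *ᵥ v) p = hermForm N F q v (mt g *ᵥ p) := by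
    conv_rhs => rw [← mt_inv_mulVec g v, herm_mt]
  have e2 : hermForm N F q (mt g⁻¹ *ᵥ v) w = hermForm N F q v (mt g *ᵥ w) := by
    conv_rhs => rw [← mt_inv_mulVec g v, herm_mt]
  rw [e1, e2]

theorem SgOK.add {p w w' : Fin N → F} {c c' : F} (h : SgOK q p w c) (h' : SgOK q p w' c') :
    SgOK q p (w + w') (c + c' - hermForm N F q w' w) := by
  obtain ⟨hp, hw, hc⟩ := h
  obtain ⟨-, hw', hc'⟩ := h'
  refine ⟨hp, by rw [hermForm_add_left, hw, hw', add_zero], ?_⟩
  rw [hermForm_add_left, hermForm_add_right hF.out, hermForm_add_right hF.out, sub_pow_q hF.out,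
    add_pow_q hF.out, herm_conj]
  linear_combination hc + hc'

/-- the product of two Siegel elements with the same centre. -/
theorem Sg_mul {p w w' : Fin N → F} {c c' : F} (h : SgOK q p w c) (h' : SgOK q p w' c') :
    Sg q p w c * Sg q p w' c' = Sg q p (w + w') (c + c' - hermForm N F q w' w) := by
  apply ext_mulVec
  intro v
  rw [mt_mul_mulVec, Sg_mulVec h', Sg_mulVec h, Sg_mulVec (h.add h')]
  obtain ⟨hp, hw, hc⟩ := h
  obtain ⟨-, hw', hc'⟩ := h'
  have hpw := herm_eq_zero_symm hw
  simp only [hermForm_add_left, hermForm_sub_left, hermForm_smul_left, hermForm_add_right hF.out,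
    hp, hpw, hw', mul_zero, add_zero, sub_zero]
  module

theorem SgOK.zero {p : Fin N → F} (hp : hermForm N F q p p = 0) : SgOK q p 0 0 := by
  refine ⟨hp, hermForm_zero_left p, ?_⟩
  rw [hermForm_zero_left, zero_pow, add_zero, add_zero]
  have := one_le_q hF.out
  omega

theorem Sg_zero {p : Fin N → F} (hp : hermForm N F q p p = 0) : Sg q p (0 : Fin N → F) 0 = 1 := by
  apply ext_mulVec
  intro v
  rw [Sg_mulVec (SgOK.zero hp), mt_one_mulVec, hermForm_zero_right]
  simp

theorem SgOK.neg {p w : Fin N → F} {c : F} (h : SgOK q p w c) :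
    SgOK q p (-w) (-c - hermForm N F q w w) := by
  obtain ⟨hp, hw, hc⟩ := h
  refine ⟨hp, by rw [herm_neg_left, hw, neg_zero], ?_⟩
  rw [herm_neg_left, herm_neg_right, sub_pow_q hF.out, neg_pow_q hF.out, herm_self_fixed]
  linear_combination -hc

theorem Sg_inv {p w : Fin N → F} {c : F} (h : SgOK q p w c) :
    (Sg q p w c)⁻¹ = Sg q p (-w) (-c - hermForm N F q w w) := by
  rw [inv_eq_iff_mul_eq_one, Sg_mul h h.neg]
  have e1 : w + -w = 0 := add_neg_cancel w
  have e2 : c + (-c - hermForm N F q w w) - hermForm N F q (-w) w = 0 := by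
    rw [herm_neg_left]; ring
  rw [e1, e2, Sg_zero h.1]

/-- Siegel elements with zero vector are the unitary transvections. -/
theorem SgOK.tz {p : Fin N → F} (hp : hermForm N F q p p = 0) {s : F} (hs : s ^ q + s = 0) :
    SgOK q p 0 s := by
  refine ⟨hp, hermForm_zero_left p, ?_⟩
  rw [hermForm_zero_left, add_zero]
  linear_combination hs

theorem Sg_eq_TU {p : Fin N → F} (hp : hermForm N F q p p = 0) {s : F} (hs : s ^ q + s = 0) :
    Sg q p (0 : Fin N → F) s = TU q p s := by
  apply ext_mulVec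
  intro v
  rw [Sg_mulVec (SgOK.tz hp hs), TU_mulVec hp hs, hermForm_zero_right]
  simp

/-- changing the central parameter. -/
theorem SgOK.add_tz {p w : Fin N → F} {c : F} (h : SgOK q p w c) {s : F} (hs : s ^ q + s = 0) :
    SgOK q p w (c + s) := by
  obtain ⟨hp, hw, hc⟩ := h
  refine ⟨hp, hw, ?_⟩
  rw [add_pow_q hF.out]
  linear_combination hc + hs

theorem Sg_mul_TU {p w : Fin N → F} {c : F} (h : SgOK q p w c) {s : F} (hs : s ^ q + s = 0) :
    Sg q p w c * TU q p s = Sg q p w (c + s) := by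
  rw [← Sg_eq_TU h.1 hs, Sg_mul h (SgOK.tz h.1 hs), add_zero, hermForm_zero_left, sub_zero]

/-- the difference of two admissible central parameters has trace zero. -/
theorem SgOK.sub_tz {p w : Fin N → F} {c c' : F} (h : SgOK q p w c) (h' : SgOK q p w c') :
    (c' - c) ^ q + (c' - c) = 0 := by
  rw [sub_pow_q hF.out]
  linear_combination h'.2.2 - h.2.2

/-- adding a multiple of the centre to the vector. -/
theorem SgOK.add_smul_self {p w : Fin N → F} {c : F} (h : SgOK q p w c) (μ : F) :
    SgOK q p (w + μ • p) (c - μ + μ ^ q) := by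
  obtain ⟨hp, hw, hc⟩ := h
  have hpw := herm_eq_zero_symm hw
  refine ⟨hp, by rw [hermForm_add_left, hermForm_smul_left, hw, hp, mul_zero, add_zero], ?_⟩
  rw [hermForm_add_left, hermForm_add_right hF.out, hermForm_add_right hF.out, hermForm_smul_left,
    hermForm_smul_left, hermForm_smul_right, hermForm_smul_right, hp, hw, hpw, add_pow_q hF.out,
    sub_pow_q hF.out, pow_q_pow_q hF.out]
  linear_combination hc

theorem Sg_add_smul_self {p w : Fin N → F} {c : F} (h : SgOK q p w c) (μ : F) :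
    Sg q p (w + μ • p) (c - μ + μ ^ q) = Sg q p w c := by
  apply ext_mulVec
  intro v
  rw [Sg_mulVec (h.add_smul_self μ), Sg_mulVec h, hermForm_add_right hF.out, hermForm_smul_right]
  module

/-- rescaling the centre. -/
theorem SgOK.smul_left {p w : Fin N → F} {c : F} (h : SgOK q p w c) (a : F) :
    SgOK q p (a ^ q • w) (c * (a * a ^ q)) := by
  obtain ⟨hp, hw, hc⟩ := h
  refine ⟨hp, by rw [hermForm_smul_left, hw, mul_zero], ?_⟩
  rw [hermForm_smul_left, hermForm_smul_right, mul_pow, mul_pow, pow_q_pow_q hF.out]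
  linear_combination (a * a ^ q) * hc

theorem SgOK.of_smul_left {p w : Fin N → F} {c : F} (h : SgOK q p w c) {a : F} (ha : a ≠ 0) :
    SgOK q (a • p) w c := by
  obtain ⟨hp, hw, hc⟩ := h
  have _ := ha
  exact ⟨by rw [hermForm_smul_smul, hp, mul_zero],
    by rw [hermForm_smul_right, hw, mul_zero], hc⟩

theorem Sg_smul_left {p w : Fin N → F} {c : F} (h : SgOK q p w c) {a : F} (ha : a ≠ 0) :
    Sg q (a • p) w c = Sg q p (a ^ q • w) (c * (a * a ^ q)) := by
  apply ext_mulVec
  intro v
  rw [Sg_mulVec (h.of_smul_left ha), Sg_mulVec (h.smul_left a), hermForm_smul_right,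
    hermForm_smul_right, pow_q_pow_q hF.out]
  module

/-- the commutation rule: two Siegel elements with the same centre commute up to a
transvection. -/
theorem Sg_comm {p w w' : Fin N → F} {c c' : F} (h : SgOK q p w c) (h' : SgOK q p w' c') :
    Sg q p w c * Sg q p w' c'
      = Sg q p w' c' * Sg q p w c * TU q p (hermForm N F q w w' - hermForm N F q w' w) := by
  have hs : (hermForm N F q w w' - hermForm N F q w' w) ^ q
      + (hermForm N F q w w' - hermForm N F q w' w) = 0 := by
    rw [sub_pow_q hF.out, herm_conj, herm_conj]; ring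
  rw [Sg_mul h h', Sg_mul h' h, Sg_mul_TU (h'.add h) hs, add_comm w' w]
  congr 1
  ring

/-! ### Short root elements -/

theorem SgOK.short {p v : Fin N → F} (hp : hermForm N F q p p = 0) (hv : hermForm N F q v v = 0)
    (hvp : hermForm N F q v p = 0) (a : F) : SgOK q p (-(a ^ q) • v) 0 := by
  refine ⟨hp, by rw [hermForm_smul_left, hvp, mul_zero], ?_⟩
  rw [hermForm_smul_left, hermForm_smul_right, hv, mul_zero, mul_zero, zero_pow, add_zero, add_zero]
  have := one_le_q hF.out
  omega

/-- the short root element `x ↦ x + a h(x,v) p − a^q h(x,p) v` (`p ⟂ v` isotropic). -/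
noncomputable def Sh (q : ℕ) [hF : Fact (Fintype.card F = q ^ 2)] (p v : Fin N → F) (a : F) :
    SU N F q := Sg q p (-(a ^ q) • v) 0

theorem Sh_mulVec {p v : Fin N → F} (hp : hermForm N F q p p = 0) (hv : hermForm N F q v v = 0)
    (hvp : hermForm N F q v p = 0) (a : F) (x : Fin N → F) :
    mt (Sh q p v a) *ᵥ x = x + (a * hermForm N F q x v) • p - (a ^ q * hermForm N F q x p) • v := by
  unfold Sh
  rw [Sg_mulVec (SgOK.short hp hv hvp a), hermForm_smul_right, neg_pow_q hF.out, pow_q_pow_q hF.out]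
  module

theorem conj_Sh (g : SU N F q) {p v : Fin N → F} (hp : hermForm N F q p p = 0)
    (hv : hermForm N F q v v = 0) (hvp : hermForm N F q v p = 0) (a : F) :
    g * Sh q p v a * g⁻¹ = Sh q (mt g *ᵥ p) (mt g *ᵥ v) a := by
  unfold Sh
  rw [conj_Sg g (SgOK.short hp hv hvp a), mulVec_smul]

/-! ### The part of the radical of a point inside a subgroup -/

/-- the vectors `w ⟂ p` such that some Siegel element `Sg q p w c` lies in `H`. -/
def MG (H : Subgroup (SU N F q)) (p : Fin N → F) (hp : hermForm N F q p p = 0) :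
    AddSubgroup (Fin N → F) where
  carrier := {w | ∃ c : F, SgOK q p w c ∧ Sg q p w c ∈ H}
  zero_mem' := ⟨0, SgOK.zero hp, by rw [Sg_zero hp]; exact H.one_mem⟩
  add_mem' := by
    rintro w w' ⟨c, hc, hcH⟩ ⟨c', hc', hcH'⟩
    exact ⟨_, hc.add hc', by rw [← Sg_mul hc hc']; exact H.mul_mem hcH hcH'⟩
  neg_mem' := by
    rintro w ⟨c, hc, hcH⟩
    exact ⟨_, hc.neg, by rw [← Sg_inv hc]; exact H.inv_mem hcH⟩

theorem mem_MG {H : Subgroup (SU N F q)} {p : Fin N → F} {hp : hermForm N F q p p = 0}
    {w : Fin N → F} : w ∈ MG H p hp ↔ ∃ c : F, SgOK q p w c ∧ Sg q p w c ∈ H := Iff.rfl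

/-- multiples of the centre lie in `MG`. -/
theorem smul_self_mem_MG (H : Subgroup (SU N F q)) {p : Fin N → F} (hp : hermForm N F q p p = 0)
    (μ : F) : μ • p ∈ MG H p hp := by
  have h0 := (SgOK.zero hp).add_smul_self μ
  have h1 := Sg_add_smul_self (SgOK.zero hp) μ
  rw [zero_add] at h0 h1
  refine ⟨_, h0, ?_⟩
  rw [h1, Sg_zero hp]
  exact H.one_mem

/-- `MG` is stable under the elements of `H` fixing the centre. -/
theorem MG_map {H : Subgroup (SU N F q)} {p : Fin N → F} {hp : hermForm N F q p p = 0}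
    {g : SU N F q} (hg : g ∈ H) (hgp : mt g *ᵥ p = p) {w : Fin N → F} (hw : w ∈ MG H p hp) :
    mt g *ᵥ w ∈ MG H p hp := by
  obtain ⟨c, hc, hcH⟩ := hw
  have h1 := hc.map g
  have h2 := conj_Sg g hc
  rw [hgp] at h1 h2
  exact ⟨c, h1, by rw [← h2]; exact H.mul_mem (H.mul_mem hg hcH) (H.inv_mem hg)⟩

/-- the whole radical of the point `⟨p⟩`, up to central elements, occurs in `H`. -/
def Big (H : Subgroup (SU N F q)) (p : Fin N → F) : Prop :=
  hermForm N F q p p = 0 ∧
    ∀ w : Fin N → F, hermForm N F q w p = 0 → ∃ c : F, SgOK q p w c ∧ Sg q p w c ∈ H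

/-- the whole radical of the point `⟨p⟩` lies in `H`. -/
def Full (H : Subgroup (SU N F q)) (p : Fin N → F) : Prop :=
  ∀ (w : Fin N → F) (c : F), SgOK q p w c → Sg q p w c ∈ H

/-- the orbit of `p` under `H`, with scalars. -/
def Orb (H : Subgroup (SU N F q)) (p : Fin N → F) : Set (Fin N → F) :=
  {w | ∃ g ∈ H, ∃ a : F, a ≠ 0 ∧ w = a • (mt g *ᵥ p)}

theorem self_mem_Orb (H : Subgroup (SU N F q)) (p : Fin N → F) : p ∈ Orb H p :=
  ⟨1, H.one_mem, 1, one_ne_zero, by rw [mt_one_mulVec, one_smul]⟩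

theorem Orb_map {H : Subgroup (SU N F q)} {p w : Fin N → F} (hw : w ∈ Orb H p) {g : SU N F q}
    (hg : g ∈ H) : mt g *ᵥ w ∈ Orb H p := by
  obtain ⟨k, hk, a, ha, rfl⟩ := hw
  exact ⟨g * k, H.mul_mem hg hk, a, ha, by rw [mulVec_smul, mt_mul_mulVec]⟩

theorem Orb_smul {H : Subgroup (SU N F q)} {p w : Fin N → F} (hw : w ∈ Orb H p) {b : F}
    (hb : b ≠ 0) : b • w ∈ Orb H p := by
  obtain ⟨k, hk, a, ha, rfl⟩ := hw
  exact ⟨k, hk, b * a, mul_ne_zero hb ha, by rw [smul_smul]⟩

/-! ### Hyperbolic frames of an odd-dimensional space -/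

/-- a hyperbolic frame `e_0, …, e_{m-1}, d, f_{m-1}, …, f_0` (indices `≥ m` are irrelevant). -/
structure OFrame (q : ℕ) (N m : ℕ) (e f : ℕ → Fin N → F) (d : Fin N → F) : Prop where
  ee : ∀ i j, i < m → j < m → hermForm N F q (e i) (e j) = 0
  ff : ∀ i j, i < m → j < m → hermForm N F q (f i) (f j) = 0
  ef : ∀ i j, i < m → j < m → hermForm N F q (e i) (f j) = if i = j then 1 else 0
  fe : ∀ i j, i < m → j < m → hermForm N F q (f i) (e j) = if i = j then 1 else 0
  dd : hermForm N F q d d = 1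
  de : ∀ i, i < m → hermForm N F q d (e i) = 0
  ed : ∀ i, i < m → hermForm N F q (e i) d = 0
  df : ∀ i, i < m → hermForm N F q d (f i) = 0
  fd : ∀ i, i < m → hermForm N F q (f i) d = 0
  expand : ∀ x : Fin N → F, x = ∑ i ∈ Finset.range m,
      (hermForm N F q x (f i) • e i + hermForm N F q x (e i) • f i) + hermForm N F q x d • d

end Cfsg.Agent.SUTri
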