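import Mathlib
import Cfsg.Prelude.Def_Classical
import Cfsg.Agent.Helper7.Hermitian

set_option autoImplicit false

/-!
# S2282 swarm piece FRAME (helper3)

An explicit hyperbolic frame `e_0..e_{m-1}, d, f_{m-1}..f_0` of the standard Hermitian space
`(F^(2m+1), hermForm)`, `|F| = q²`, built from `lam` with `lam^(q+1) = -1` and `cc` with
`cc^q + cc = -1`: the form table and the expansion of an arbitrary vector.
-/

namespace Cfsg.Agent.SUTri

open Matrix Cfsg Cfsg.Agent.Helper7.Herm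

variable {F : Type*} [Field F]

/-- the isotropic vector `e_i = (…,1,lam,…)` on the coordinate pair `(2i, 2i+1)` (`0` if `i ≥ m`). -/
def h3_e (m : ℕ) (lam : F) (i : ℕ) : Fin (2 * m + 1) → F :=
  fun k => if k.val = 2 * i ∧ i < m then 1 else if k.val = 2 * i + 1 then lam else 0

/-- the isotropic vector `f_i = (…,1+cc,cc*lam,…)` on the coordinate pair `(2i, 2i+1)`. -/
def h3_f (m : ℕ) (lam cc : F) (i : ℕ) : Fin (2 * m + 1) → F :=
  fun k => if k.val = 2 * i ∧ i < m then 1 + cc else if k.val = 2 * i + 1 then cc * lam else 0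

/-- the anisotropic vector `d` = last coordinate vector. -/
def h3_d (m : ℕ) : Fin (2 * m + 1) → F :=
  fun k => if k.val = 2 * m then 1 else 0

/-- the vector with entries `s, t` at positions `2i, 2i+1` (zero if `i ≥ m`). -/
def h3_pr (m : ℕ) (s t : F) (i : ℕ) : Fin (2 * m + 1) → F :=
  fun k => if k.val = 2 * i ∧ i < m then s else if k.val = 2 * i + 1 then t else 0

theorem h3_e_eq (m : ℕ) (lam : F) (i : ℕ) : h3_e m lam i = h3_pr m 1 lam i := rfl

theorem h3_f_eq (m : ℕ) (lam cc : F) (i : ℕ) :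
    h3_f m lam cc i = h3_pr m (1 + cc) (cc * lam) i := rfl

variable {m : ℕ}

/-! ### Coordinates -/

theorem h3_pr_even (s t : F) (i : ℕ) {j : ℕ} (hj : j < m) {k : Fin (2 * m + 1)}
    (hk : k.val = 2 * j) : h3_pr m s t i k = if i = j then s else 0 := by
  unfold h3_pr
  by_cases h : i = j
  · subst h
    rw [if_pos ⟨hk, hj⟩, if_pos rfl]
  · rw [if_neg (by omega), if_neg (by omega), if_neg h]

theorem h3_pr_odd (s t : F) (i : ℕ) {j : ℕ} {k : Fin (2 * m + 1)}
    (hk : k.val = 2 * j + 1) : h3_pr m s t i k = if i = j then t else 0 := by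
  unfold h3_pr
  by_cases h : i = j
  · subst h
    rw [if_neg (by omega), if_pos hk, if_pos rfl]
  · rw [if_neg (by omega), if_neg (by omega), if_neg h]

theorem h3_pr_last (s t : F) (i : ℕ) {k : Fin (2 * m + 1)} (hk : k.val = 2 * m) :
    h3_pr m s t i k = 0 := by
  unfold h3_pr
  rw [if_neg (by omega), if_neg (by omega)]

theorem h3_pr_other (s t : F) (i : ℕ) {c : Fin (2 * m + 1)} (h0 : c.val ≠ 2 * i)
    (h1 : c.val ≠ 2 * i + 1) : h3_pr m s t i c = 0 := by
  unfold h3_pr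
  rw [if_neg (fun h => h0 h.1), if_neg h1]

theorem h3_pr_zero (s t : F) {i : ℕ} (hi : m ≤ i) : h3_pr m s t i = 0 := by
  funext k
  have := k.2
  unfold h3_pr
  rw [if_neg (by omega), if_neg (by omega)]
  rfl

theorem h3_e_zero (lam : F) {i : ℕ} (hi : m ≤ i) : h3_e m lam i = 0 := h3_pr_zero 1 lam hi

theorem h3_f_zero (lam cc : F) {i : ℕ} (hi : m ≤ i) : h3_f m lam cc i = 0 :=
  h3_pr_zero _ _ hi

theorem h3_d_last {k : Fin (2 * m + 1)} (hk : k.val = 2 * m) : h3_d m k = (1 : F) := if_pos hk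

theorem h3_d_ne {k : Fin (2 * m + 1)} (hk : k.val ≠ 2 * m) : h3_d m k = (0 : F) := if_neg hk

/-! ### The form against pair vectors and `d` -/

theorem h3_sum_two {n : ℕ} (a b : Fin n) (hab : a ≠ b) (g : Fin n → F)
    (hg : ∀ c, c ≠ a → c ≠ b → g c = 0) : ∑ c, g c = g a + g b :=
  Finset.sum_eq_add a b hab (fun c _ hc => hg c hc.1 hc.2)
    (fun h => absurd (Finset.mem_univ _) h) (fun h => absurd (Finset.mem_univ _) h)

theorem h3_herm_zero_left {n q : ℕ} (y : Fin n → F) : hermForm n F q 0 y = 0 := by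
  unfold hermForm
  simp

theorem h3_herm_zero_right {n q : ℕ} (hq : q ≠ 0) (x : Fin n → F) : hermForm n F q x 0 = 0 := by
  unfold hermForm
  simp [zero_pow hq]

theorem h3_herm_pr_left (q : ℕ) (s t : F) {i : ℕ} (hi : i < m) {a b : Fin (2 * m + 1)}
    (ha : a.val = 2 * i) (hb : b.val = 2 * i + 1) (y : Fin (2 * m + 1) → F) :
    hermForm (2 * m + 1) F q (h3_pr m s t i) y = s * y a ^ q + t * y b ^ q := by
  unfold hermForm
  refine (h3_sum_two a b (by intro e; rw [e] at ha; omega) _ ?_).trans ?_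
  · intro c hca hcb
    rw [h3_pr_other s t i (fun h => hca (Fin.ext (h.trans ha.symm)))
      (fun h => hcb (Fin.ext (h.trans hb.symm))), zero_mul]
  · rw [h3_pr_even s t i hi ha, h3_pr_odd s t i hb, if_pos rfl, if_pos rfl]

theorem h3_herm_pr_right {q : ℕ} (hq : q ≠ 0) (s t : F) {i : ℕ} (hi : i < m)
    {a b : Fin (2 * m + 1)} (ha : a.val = 2 * i) (hb : b.val = 2 * i + 1)
    (x : Fin (2 * m + 1) → F) :
    hermForm (2 * m + 1) F q x (h3_pr m s t i) = x a * s ^ q + x b * t ^ q := by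
  unfold hermForm
  refine (h3_sum_two a b (by intro e; rw [e] at ha; omega) _ ?_).trans ?_
  · intro c hca hcb
    rw [h3_pr_other s t i (fun h => hca (Fin.ext (h.trans ha.symm)))
      (fun h => hcb (Fin.ext (h.trans hb.symm))), zero_pow hq, mul_zero]
  · rw [h3_pr_even s t i hi ha, h3_pr_odd s t i hb, if_pos rfl, if_pos rfl]

theorem h3_herm_pr_pr {q : ℕ} (hq : q ≠ 0) (s t s' t' : F) (i j : ℕ) :
    hermForm (2 * m + 1) F q (h3_pr m s t i) (h3_pr m s' t' j) =
      if i = j ∧ i < m then s * s' ^ q + t * t' ^ q else 0 := by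
  by_cases hi : i < m
  · rw [h3_herm_pr_left q s t hi (a := ⟨2 * i, by omega⟩) (b := ⟨2 * i + 1, by omega⟩) rfl rfl,
      h3_pr_even s' t' j hi rfl, h3_pr_odd s' t' j rfl]
    by_cases h : i = j
    · rw [if_pos h.symm, if_pos h.symm, if_pos ⟨h, hi⟩]
    · rw [if_neg (Ne.symm h), if_neg (Ne.symm h), if_neg (fun hh => h hh.1), zero_pow hq,
        mul_zero, mul_zero, add_zero]
  · rw [h3_pr_zero s t (by omega), h3_herm_zero_left, if_neg (fun hh => hi hh.2)]

theorem h3_herm_d_left (q : ℕ) {a : Fin (2 * m + 1)} (ha : a.val = 2 * m)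
    (y : Fin (2 * m + 1) → F) : hermForm (2 * m + 1) F q (h3_d m) y = y a ^ q := by
  unfold hermForm
  rw [Finset.sum_eq_single a, h3_d_last ha, one_mul]
  · intro c _ hc
    rw [h3_d_ne (fun h => hc (Fin.ext (h.trans ha.symm))), zero_mul]
  · intro h
    exact absurd (Finset.mem_univ _) h

theorem h3_herm_d_right {q : ℕ} (hq : q ≠ 0) {a : Fin (2 * m + 1)} (ha : a.val = 2 * m)
    (x : Fin (2 * m + 1) → F) : hermForm (2 * m + 1) F q x (h3_d m) = x a := by
  unfold hermForm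
  rw [Finset.sum_eq_single a, h3_d_last ha, one_pow, mul_one]
  · intro c _ hc
    rw [h3_d_ne (fun h => hc (Fin.ext (h.trans ha.symm))), zero_pow hq, mul_zero]
  · intro h
    exact absurd (Finset.mem_univ _) h

theorem h3_pr_d {q : ℕ} (hq : q ≠ 0) (s t : F) (i : ℕ) :
    hermForm (2 * m + 1) F q (h3_pr m s t i) (h3_d m) = 0 := by
  rw [h3_herm_d_right hq (a := ⟨2 * m, by omega⟩) rfl, h3_pr_last s t i rfl]

theorem h3_d_pr {q : ℕ} (hq : q ≠ 0) (s t : F) (i : ℕ) :
    hermForm (2 * m + 1) F q (h3_d m) (h3_pr m s t i) = 0 := by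
  rw [h3_herm_d_left q (a := ⟨2 * m, by omega⟩) rfl, h3_pr_last s t i rfl, zero_pow hq]

/-! ### The form table -/

section table

variable [Fintype F] {q : ℕ}

theorem h3_q_ne_zero (hF : Fintype.card F = q ^ 2) : q ≠ 0 := by
  have := one_le_q hF
  omega

theorem h3_ee (hF : Fintype.card F = q ^ 2) (lam : F) (hl : lam ^ (q + 1) = -1) (i j : ℕ) :
    hermForm (2 * m + 1) F q (h3_e m lam i) (h3_e m lam j) = 0 := by
  rw [h3_e_eq, h3_e_eq, h3_herm_pr_pr (h3_q_ne_zero hF)]
  split_ifs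
  · rw [pow_succ] at hl
    rw [one_pow, one_mul, mul_comm, hl]
    ring
  · rfl

theorem h3_ff (hF : Fintype.card F = q ^ 2) (lam cc : F) (hl : lam ^ (q + 1) = -1)
    (hc : cc ^ q + cc = -1) (i j : ℕ) :
    hermForm (2 * m + 1) F q (h3_f m lam cc i) (h3_f m lam cc j) = 0 := by
  rw [h3_f_eq, h3_f_eq, h3_herm_pr_pr (h3_q_ne_zero hF)]
  split_ifs
  · rw [pow_succ] at hl
    rw [add_pow_q hF, one_pow, mul_pow]
    linear_combination (1 : F) * hc + (cc * cc ^ q) * hl
  · rfl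

theorem h3_ef (hF : Fintype.card F = q ^ 2) (lam cc : F) (hl : lam ^ (q + 1) = -1) (i j : ℕ) :
    hermForm (2 * m + 1) F q (h3_e m lam i) (h3_f m lam cc j) =
      if i = j ∧ i < m then 1 else 0 := by
  rw [h3_e_eq, h3_f_eq, h3_herm_pr_pr (h3_q_ne_zero hF)]
  split_ifs
  · rw [pow_succ] at hl
    rw [add_pow_q hF, one_pow, mul_pow]
    linear_combination (cc ^ q) * hl
  · rfl

theorem h3_fe (hF : Fintype.card F = q ^ 2) (lam cc : F) (hl : lam ^ (q + 1) = -1) (i j : ℕ) :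
    hermForm (2 * m + 1) F q (h3_f m lam cc i) (h3_e m lam j) =
      if i = j ∧ i < m then 1 else 0 := by
  rw [h3_e_eq, h3_f_eq, h3_herm_pr_pr (h3_q_ne_zero hF)]
  split_ifs
  · rw [pow_succ] at hl
    rw [one_pow]
    linear_combination cc * hl
  · rfl

theorem h3_ef' (hF : Fintype.card F = q ^ 2) (lam cc : F) (hl : lam ^ (q + 1) = -1) {i : ℕ}
    (hi : i < m) (j : ℕ) :
    hermForm (2 * m + 1) F q (h3_e m lam i) (h3_f m lam cc j) = if i = j then 1 else 0 := by
  rw [h3_ef hF lam cc hl]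
  by_cases h : i = j
  · rw [if_pos ⟨h, hi⟩, if_pos h]
  · rw [if_neg (fun hh => h hh.1), if_neg h]

theorem h3_fe' (hF : Fintype.card F = q ^ 2) (lam cc : F) (hl : lam ^ (q + 1) = -1) {i : ℕ}
    (hi : i < m) (j : ℕ) :
    hermForm (2 * m + 1) F q (h3_f m lam cc i) (h3_e m lam j) = if i = j then 1 else 0 := by
  rw [h3_fe hF lam cc hl]
  by_cases h : i = j
  · rw [if_pos ⟨h, hi⟩, if_pos h]
  · rw [if_neg (fun hh => h hh.1), if_neg h]

theorem h3_ed (hF : Fintype.card F = q ^ 2) (lam : F) (i : ℕ) :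
    hermForm (2 * m + 1) F q (h3_e m lam i) (h3_d m) = 0 := h3_pr_d (h3_q_ne_zero hF) _ _ i

theorem h3_de (hF : Fintype.card F = q ^ 2) (lam : F) (i : ℕ) :
    hermForm (2 * m + 1) F q (h3_d m) (h3_e m lam i) = 0 := h3_d_pr (h3_q_ne_zero hF) _ _ i

theorem h3_fd (hF : Fintype.card F = q ^ 2) (lam cc : F) (i : ℕ) :
    hermForm (2 * m + 1) F q (h3_f m lam cc i) (h3_d m) = 0 := h3_pr_d (h3_q_ne_zero hF) _ _ i

theorem h3_df (hF : Fintype.card F = q ^ 2) (lam cc : F) (i : ℕ) :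
    hermForm (2 * m + 1) F q (h3_d m) (h3_f m lam cc i) = 0 := h3_d_pr (h3_q_ne_zero hF) _ _ i

theorem h3_dd (hF : Fintype.card F = q ^ 2) :
    hermForm (2 * m + 1) F q (h3_d m) (h3_d m) = 1 := by
  rw [h3_herm_d_right (h3_q_ne_zero hF) (a := ⟨2 * m, by omega⟩) rfl, h3_d_last rfl]

/-- coordinates of a vector in the frame: `hermForm x e_i`. -/
theorem h3_herm_e_right (hF : Fintype.card F = q ^ 2) (lam : F) {i : ℕ} (hi : i < m)
    {a b : Fin (2 * m + 1)} (ha : a.val = 2 * i) (hb : b.val = 2 * i + 1)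
    (x : Fin (2 * m + 1) → F) :
    hermForm (2 * m + 1) F q x (h3_e m lam i) = x a + x b * lam ^ q := by
  rw [h3_e_eq, h3_herm_pr_right (h3_q_ne_zero hF) 1 lam hi ha hb, one_pow, mul_one]

theorem h3_herm_f_right (hF : Fintype.card F = q ^ 2) (lam cc : F) {i : ℕ} (hi : i < m)
    {a b : Fin (2 * m + 1)} (ha : a.val = 2 * i) (hb : b.val = 2 * i + 1)
    (x : Fin (2 * m + 1) → F) :
    hermForm (2 * m + 1) F q x (h3_f m lam cc i) =
      x a * (1 + cc ^ q) + x b * (cc ^ q * lam ^ q) := by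
  rw [h3_f_eq, h3_herm_pr_right (h3_q_ne_zero hF) _ _ hi ha hb, add_pow_q hF, one_pow, mul_pow]

/-- **Expansion in the frame.** -/
theorem h3_expand (hF : Fintype.card F = q ^ 2) (lam cc : F) (hl : lam ^ (q + 1) = -1)
    (hc : cc ^ q + cc = -1) (x : Fin (2 * m + 1) → F) :
    x = ∑ i ∈ Finset.range m,
          (hermForm (2 * m + 1) F q x (h3_f m lam cc i) • h3_e m lam i
            + hermForm (2 * m + 1) F q x (h3_e m lam i) • h3_f m lam cc i)
        + hermForm (2 * m + 1) F q x (h3_d m) • h3_d m := by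
  have hq := h3_q_ne_zero hF
  have hl' : lam ^ q * lam = -1 := by rw [← pow_succ]; exact hl
  funext k
  rw [Pi.add_apply, Finset.sum_apply, Pi.smul_apply, smul_eq_mul]
  simp only [Pi.add_apply, Pi.smul_apply, smul_eq_mul]
  have hk := k.2
  obtain ⟨j, hj | hj⟩ : ∃ j, k.val = 2 * j ∨ k.val = 2 * j + 1 := ⟨k.val / 2, by omega⟩
  · by_cases hjm : j < m
    · -- even coordinate `2j`
      rw [Finset.sum_eq_single j, h3_d_ne (by omega), mul_zero, add_zero]
      · rw [h3_e_eq, h3_f_eq, h3_pr_even _ _ j hjm hj, h3_pr_even _ _ j hjm hj, if_pos rfl,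
          if_pos rfl, ← h3_e_eq, ← h3_f_eq,
          h3_herm_e_right hF lam hjm hj (b := ⟨2 * j + 1, by omega⟩) rfl,
          h3_herm_f_right hF lam cc hjm hj (b := ⟨2 * j + 1, by omega⟩) rfl]
        linear_combination (-(x k + x ⟨2 * j + 1, by omega⟩ * lam ^ q)) * hc
      · intro i _ hij
        rw [h3_e_eq, h3_f_eq, h3_pr_even _ _ i hjm hj, h3_pr_even _ _ i hjm hj, if_neg hij,
          if_neg hij, mul_zero, mul_zero, add_zero]
      · intro h
        exact absurd (Finset.mem_range.2 hjm) h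
    · -- last coordinate `2m`
      have hkm : k.val = 2 * m := by omega
      rw [Finset.sum_eq_zero, zero_add, h3_d_last hkm, mul_one, h3_herm_d_right hq hkm]
      intro i _
      rw [h3_e_eq, h3_f_eq, h3_pr_last _ _ i hkm, h3_pr_last _ _ i hkm, mul_zero, mul_zero,
        add_zero]
  · -- odd coordinate `2j+1`
    have hjm : j < m := by omega
    rw [Finset.sum_eq_single j, h3_d_ne (by omega), mul_zero, add_zero]
    · rw [h3_e_eq, h3_f_eq, h3_pr_odd _ _ j hj, h3_pr_odd _ _ j hj, if_pos rfl,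
        if_pos rfl, ← h3_e_eq, ← h3_f_eq,
        h3_herm_e_right hF lam hjm (a := ⟨2 * j, by omega⟩) rfl hj,
        h3_herm_f_right hF lam cc hjm (a := ⟨2 * j, by omega⟩) rfl hj]
      linear_combination (-(x ⟨2 * j, by omega⟩ * lam) - x k * (lam ^ q * lam)) * hc + x k * hl'
    · intro i _ hij
      rw [h3_e_eq, h3_f_eq, h3_pr_odd _ _ i hj, h3_pr_odd _ _ i hj, if_neg hij,
        if_neg hij, mul_zero, mul_zero, add_zero]
    · intro h
      exact absurd (Finset.mem_range.2 hjm) h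

end table

end Cfsg.Agent.SUTri
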