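import Mathlib
import Cfsg.Agent.SUTri.Base
import Cfsg.Agent.SUTri.H3_Frame
import Cfsg.Agent.SU3G.H1_NT

set_option autoImplicit false

/-!
# S2282 swarm piece FRAME, instance (helper3)

The explicit frame of `H3_Frame` is an `OFrame`; existence of the parameters.
-/

namespace Cfsg.Agent.SUTri

open Matrix Cfsg Cfsg.Agent.Helper7.Herm Cfsg.Agent.Helper8.SURoot Cfsg.Agent.Helper8.GUOrder

variable {F : Type*} [Field F] [Fintype F] {q : ℕ}

/-- the explicit frame is a hyperbolic frame. -/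
theorem h3_oframe [hF : Fact (Fintype.card F = q ^ 2)] (m : ℕ) (lam cc : F)
    (hl : lam ^ (q + 1) = -1) (hc : cc ^ q + cc = -1) :
    OFrame q (2 * m + 1) m (h3_e m lam) (h3_f m lam cc) (h3_d m) where
  ee := fun i j _ _ => h3_ee hF.out lam hl i j
  ff := fun i j _ _ => h3_ff hF.out lam cc hl hc i j
  ef := fun _ j hi _ => h3_ef' hF.out lam cc hl hi j
  fe := fun _ j hi _ => h3_fe' hF.out lam cc hl hi j
  dd := h3_dd hF.out
  de := fun i _ => h3_de hF.out lam i
  ed := fun i _ => h3_ed hF.out lam i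
  df := fun i _ => h3_df hF.out lam cc i
  fd := fun i _ => h3_fd hF.out lam cc i
  expand := h3_expand hF.out lam cc hl hc

/-- the stub name of the swarm blueprint (same statement as `h3_oframe`). -/
theorem h3_frame [hF : Fact (Fintype.card F = q ^ 2)] (m : ℕ) (lam cc : F)
    (hl : lam ^ (q + 1) = -1) (hc : cc ^ q + cc = -1) :
    OFrame q (2 * m + 1) m (h3_e m lam) (h3_f m lam cc) (h3_d m (F := F)) :=
  h3_oframe m lam cc hl hc

theorem h3_two_le_q (hF : Fintype.card F = q ^ 2) : 2 ≤ q := by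
  have h1 := Fintype.one_lt_card (α := F)
  rw [hF] at h1
  by_contra h
  have : q ≤ 1 := by omega
  have : q ^ 2 ≤ 1 ^ 2 := Nat.pow_le_pow_left this 2
  omega

/-- the parameters exist. -/
theorem h3_exists_params [hF : Fact (Fintype.card F = q ^ 2)] :
    ∃ lam cc : F, lam ^ (q + 1) = -1 ∧ cc ^ q + cc = -1 := by
  obtain ⟨lam, hl⟩ := Cfsg.Agent.SU3G.h1_su_norm_neg_one q hF.out (h3_two_le_q hF.out)
  obtain ⟨cc, hc⟩ := exists_trace (q := q) (c := (-1 : F)) (neg_one_pow_q hF.out)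
  exact ⟨lam, cc, hl, hc⟩

/-- a hyperbolic frame of the standard Hermitian space of dimension `2m+1` exists. -/
theorem h3_exists_oframe [hF : Fact (Fintype.card F = q ^ 2)] (m : ℕ) :
    ∃ (e f : ℕ → Fin (2 * m + 1) → F) (d : Fin (2 * m + 1) → F), OFrame q (2 * m + 1) m e f d := by
  obtain ⟨lam, cc, hl, hc⟩ := h3_exists_params (F := F) (q := q)
  exact ⟨_, _, _, h3_oframe m lam cc hl hc⟩

end Cfsg.Agent.SUTri
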