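import Mathlib
import Cfsg.Agent.SUTri.Base

set_option autoImplicit false
set_option linter.unusedSectionVars false

/-!
# S2282 swarm (architect helper8): the elements `u₁`, `u₃`, `ρ`, `k` attached to a hyperbolic frame

Frame `e_0, …, e_{m-1}, d, f_{m-1}, …, f_0` (`OFrame`).  Simple root elements
`xr i a = Sh (e i) (f (i+1)) a : e_{i+1} ↦ e_{i+1} + a e_i, f_i ↦ f_i − a^q f_{i+1}`,
`Qm b = Sg (e (m-1)) d b : f_{m-1} ↦ f_{m-1} + d + b e_{m-1}, d ↦ d − e_{m-1}` (`b + b^q + 1 = 0`),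
`u1 = xr 0 1 * (xr 1 1 * (⋯ * (xr (m-2) 1 * Qm b)))`.  Negative simple root elements
`xn i = Sh (f i) (e (i+1)) 1`, `Qn s b = Sg (f (m-1)) (s⁻¹ • d) (-b * s⁻¹ * s⁻¹)` (`s^q + s = 0`, `s ≠ 0`),
`u3 = xn 0 * (xn 1 * (⋯ * (xn (m-2) * Qn s b)))` (`= n0 u1 n0⁻¹`, `n0` a product of Weyl elements).
-/

namespace Cfsg.Agent.SUTri

open Matrix Cfsg Cfsg.Agent.Helper7.Herm Cfsg.Agent.Helper8.GUOrder Cfsg.Agent.Helper8.SURoot

variable {F : Type*} [Field F] [Fintype F] {q N : ℕ} [hF : Fact (Fintype.card F = q ^ 2)]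

/-- positive simple root element `e_{i+1} ↦ e_{i+1} + a e_i`, `f_i ↦ f_i − a^q f_{i+1}`. -/
noncomputable def xr (q : ℕ) [hF : Fact (Fintype.card F = q ^ 2)] (e f : ℕ → Fin N → F) (i : ℕ)
    (a : F) : SU N F q := Sh q (e i) (f (i + 1)) a

/-- the rank one element `f_{m-1} ↦ f_{m-1} + d + b e_{m-1}`, `d ↦ d − e_{m-1}`. -/
noncomputable def Qm (q : ℕ) [hF : Fact (Fintype.card F = q ^ 2)] (e : ℕ → Fin N → F)
    (d : Fin N → F) (m : ℕ) (b : F) : SU N F q := Sg q (e (m - 1)) d b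

/-- `Rp k = xr (m-1-k) 1 * ⋯ * xr (m-2) 1 * Qm b` (`k` simple root factors). -/
noncomputable def Rp (q : ℕ) [hF : Fact (Fintype.card F = q ^ 2)] (e f : ℕ → Fin N → F)
    (d : Fin N → F) (m : ℕ) (b : F) : ℕ → SU N F q
  | 0 => Qm q e d m b
  | k + 1 => xr q e f (m - 2 - k) 1 * Rp q e f d m b k

/-- the regular unipotent element. -/
noncomputable def u1 (q : ℕ) [hF : Fact (Fintype.card F = q ^ 2)] (e f : ℕ → Fin N → F)
    (d : Fin N → F) (m : ℕ) (b : F) : SU N F q := Rp q e f d m b (m - 1)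

/-- negative simple root element `e_i ↦ e_i − e_{i+1}`, `f_{i+1} ↦ f_{i+1} + f_i`. -/
noncomputable def xn (q : ℕ) [hF : Fact (Fintype.card F = q ^ 2)] (e f : ℕ → Fin N → F) (i : ℕ) :
    SU N F q := Sh q (f i) (e (i + 1)) 1

/-- the opposite rank one element. -/
noncomputable def Qn (q : ℕ) [hF : Fact (Fintype.card F = q ^ 2)] (f : ℕ → Fin N → F)
    (d : Fin N → F) (m : ℕ) (s b : F) : SU N F q := Sg q (f (m - 1)) (s⁻¹ • d) (-b * s⁻¹ * s⁻¹)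

/-- `Rn k = xn (m-1-k) * ⋯ * xn (m-2) * Qn s b`. -/
noncomputable def Rn (q : ℕ) [hF : Fact (Fintype.card F = q ^ 2)] (e f : ℕ → Fin N → F)
    (d : Fin N → F) (m : ℕ) (s b : F) : ℕ → SU N F q
  | 0 => Qn q f d m s b
  | k + 1 => xn q e f (m - 2 - k) * Rn q e f d m s b k

/-- the opposite regular unipotent element. -/
noncomputable def u3 (q : ℕ) [hF : Fact (Fintype.card F = q ^ 2)] (e f : ℕ → Fin N → F)
    (d : Fin N → F) (m : ℕ) (s b : F) : SU N F q := Rn q e f d m s b (m - 1)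

/-- the Weyl element `e_i ↦ −s⁻¹ f_i`, `f_i ↦ s e_i`. -/
noncomputable def wy (q : ℕ) [hF : Fact (Fintype.card F = q ^ 2)] (e f : ℕ → Fin N → F) (s : F)
    (i : ℕ) : SU N F q := TU q (e i) s * TU q (f i) (-s⁻¹) * TU q (e i) s

/-- `n0 k = wy (k-1) * ⋯ * wy 0`. -/
noncomputable def n0 (q : ℕ) [hF : Fact (Fintype.card F = q ^ 2)] (e f : ℕ → Fin N → F) (s : F) :
    ℕ → SU N F q
  | 0 => 1
  | k + 1 => wy q e f s k * n0 q e f s k

/-- `ρ(a) = u₂ u₁⁻¹` with `u₂ = xr 0 a * u₁ * (xr 0 a)⁻¹`. -/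
noncomputable def rho (q : ℕ) [hF : Fact (Fintype.card F = q ^ 2)] (e f : ℕ → Fin N → F)
    (d : Fin N → F) (m : ℕ) (b a : F) : SU N F q :=
  xr q e f 0 a * u1 q e f d m b * (xr q e f 0 a)⁻¹ * (u1 q e f d m b)⁻¹

/-- the vector `p₁ = u₃⁻¹ e_0 = e_0 + ⋯ + e_{m-1} − s⁻¹ d − s⁻² b^q f_{m-1}`. -/
def p1 (q : ℕ) (e f : ℕ → Fin N → F) (d : Fin N → F) (m : ℕ) (s b : F) : Fin N → F :=
  ∑ i ∈ Finset.range m, e i - s⁻¹ • d - (s⁻¹ * s⁻¹ * b ^ q) • f (m - 1)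

end Cfsg.Agent.SUTri
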