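import Mathlib
import Cfsg.Agent.SU3G.H1_NT

set_option autoImplicit false

/-!
Number-theoretic piece (NT) of the S2282 swarm: in a field with `q ^ 2` elements there is `b` with
`b ^ q + b = -1` generating the field; and a nonzero field generator.
-/

namespace Cfsg.Agent.SUTri

open Cfsg.Agent.SU3G

/-- a generator of the multiplicative group generates the field. -/
theorem h1_closure_of_generator {F : Type*} [Field F] (ζ : Fˣ)
    (hζ : ∀ x : Fˣ, x ∈ Subgroup.zpowers ζ) (K : Subfield F) (hK : (ζ : F) ∈ K) : K = ⊤ := by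
  rw [eq_top_iff]
  intro x _
  by_cases hx : x = 0
  · rw [hx]; exact K.zero_mem
  · obtain ⟨k, hk⟩ := hζ (Units.mk0 x hx)
    have hk' : ζ ^ k = Units.mk0 x hx := hk
    have : x = ((ζ ^ k : Fˣ) : F) := by rw [hk']; rfl
    rw [this, Units.val_zpow_eq_zpow_val]
    exact K.zpow_mem hK k

theorem h1_exists_gen {F : Type*} [Field F] [Fintype F] :
    ∃ a : F, a ≠ 0 ∧ Subfield.closure ({a} : Set F) = ⊤ := by
  obtain ⟨ζ, hζ⟩ := IsCyclic.exists_generator (α := Fˣ)
  exact ⟨(ζ : F), ζ.ne_zero, h1_closure_of_generator ζ hζ _ (Subfield.subset_closure rfl)⟩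

theorem h1_exists_gen_trace {F : Type*} [Field F] [Fintype F] {q : ℕ}
    (hF : Fintype.card F = q ^ 2) :
    ∃ b : F, b ^ q + b = -1 ∧ Subfield.closure ({b} : Set F) = ⊤ := by
  classical
  have hq2 : 2 ≤ q := by
    have h1 : 1 < Fintype.card F := Fintype.one_lt_card
    rw [hF] at h1
    by_contra h
    push Not at h
    interval_cases q <;> simp at h1
  obtain ⟨ζ, hζ⟩ := IsCyclic.exists_generator (α := Fˣ)
  have hord : orderOf ζ = q ^ 2 - 1 := by
    rw [orderOf_eq_card_of_forall_mem_zpowers hζ, Nat.card_eq_fintype_card, Fintype.card_units, hF]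
  set z : F := (ζ : F) with hz
  have hz0 : z ≠ 0 := ζ.ne_zero
  have hfrob : (z ^ q) ^ q = z := h1_su_frob q hF z
  -- t = z + z^q ≠ 0
  have ht : z + z ^ q ≠ 0 := by
    intro h
    have h1 : z ^ q = -z := by linear_combination h
    have h2 : z ^ (q - 1) = -1 := by
      have : z ^ (q - 1) * z = -z := by rw [← pow_succ, Nat.sub_add_cancel (by omega), h1]
      field_simp at this
      linear_combination this
    have h3 : z ^ (2 * (q - 1)) = 1 := by
      rw [mul_comm, pow_mul, h2]; norm_num
    have h4 : ζ ^ (2 * (q - 1)) = 1 := by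
      apply Units.ext
      rw [Units.val_pow_eq_pow_val, Units.val_one]; exact h3
    have h5 := orderOf_dvd_of_pow_eq_one h4
    rw [hord] at h5
    have h6 := Nat.le_of_dvd (by omega) h5
    have h7 : q ^ 2 - 1 = (q - 1) * (q + 1) := by
      obtain ⟨r, rfl⟩ : ∃ r, q = r + 2 := ⟨q - 2, by omega⟩
      simp only [pow_two]
      have : (r + 2) * (r + 2) - 1 = (r + 2 - 1) * (r + 2 + 1) := by
        have e : r + 2 - 1 = r + 1 := by omega
        rw [e]
        have : (r + 2) * (r + 2) = (r + 1) * (r + 2 + 1) + 1 := by ring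
        omega
      exact this
    rw [h7] at h6
    have h8 : q + 1 ≤ 2 := by
      have hpos : 0 < q - 1 := by omega
      have : (q - 1) * (q + 1) ≤ (q - 1) * 2 := by rw [mul_comm (q - 1) 2]; exact h6
      exact Nat.le_of_mul_le_mul_left this hpos
    omega
  set t : F := z + z ^ q with htdef
  have htq : t ^ q = t := by
    rw [htdef, h1_su_add_pow q hF, hfrob, add_comm]
  refine ⟨-z / t, ?_, ?_⟩
  · rw [div_pow, h1_su_neg_pow q hF, htq]
    field_simp
    rw [htdef]; ring
  · by_contra hK
    set K := Subfield.closure ({-z / t} : Set F) with hKdef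
    have hbK : -z / t ∈ K := Subfield.subset_closure rfl
    -- ω = z^(q-1) ∈ K
    have hω : z ^ (q - 1) ∈ K := by
      have h1 : z ^ (q - 1) = -1 - (-z / t)⁻¹ := by
        have hzq : z ^ q = z ^ (q - 1) * z := by rw [← pow_succ, Nat.sub_add_cancel (by omega)]
        rw [inv_div, htdef, hzq]
        field_simp
        ring
      rw [h1]
      exact K.sub_mem (K.neg_mem K.one_mem) (K.inv_mem hbK)
    -- order of ω
    have hordω : orderOf (ζ ^ (q - 1)) = q + 1 := by
      rw [orderOf_pow' ζ (by omega), hord]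
      have h7 : q ^ 2 - 1 = (q + 1) * (q - 1) := by
        obtain ⟨r, rfl⟩ : ∃ r, q = r + 2 := ⟨q - 2, by omega⟩
        have e : r + 2 - 1 = r + 1 := by omega
        rw [e]
        have : (r + 2) ^ 2 = (r + 2 + 1) * (r + 1) + 1 := by ring
        omega
      rw [h7, Nat.gcd_mul_left_left, Nat.mul_div_cancel _ (by omega)]
    -- embed into Kˣ
    have hω0 : (⟨z ^ (q - 1), hω⟩ : K) ≠ 0 := by
      intro h
      have := congrArg (Subtype.val) h
      simp only [ZeroMemClass.coe_zero] at this
      exact pow_ne_zero _ hz0 this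
    set ωK : Kˣ := Units.mk0 ⟨z ^ (q - 1), hω⟩ hω0 with hωK
    have hordK : orderOf ωK = q + 1 := by
      rw [← hordω]
      let φ : Kˣ →* Fˣ := Units.map (K.subtype : K →* F)
      have hφinj : Function.Injective φ := by
        intro a b hab
        apply Units.ext
        apply Subtype.ext
        have := congrArg (fun u : Fˣ => (u : F)) hab
        simpa [φ] using this
      rw [← orderOf_injective φ hφinj ωK]
      congr 1
      apply Units.ext
      simp [φ, hωK, hz]
    have hcardK : q + 1 ≤ Nat.card K - 1 := by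
      have := orderOf_le_card_univ (x := ωK)
      rw [hordK, Fintype.card_units, ← Nat.card_eq_fintype_card] at this
      exact this
    obtain ⟨d, hd, hpow⟩ := h1_su_card_subfield K hK
    rw [Nat.card_eq_fintype_card (α := F), hF] at hpow
    have hKpos : 2 ≤ Nat.card K := by
      have : 1 < Nat.card K := Finite.one_lt_card
      omega
    have h1 : Nat.card K ^ 2 ≤ Nat.card K ^ d := Nat.pow_le_pow_right (by omega) hd
    rw [hpow] at h1
    have h2 : Nat.card K ≤ q := by
      by_contra h
      push Not at h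
      have : q ^ 2 < Nat.card K ^ 2 := Nat.pow_lt_pow_left h (by norm_num)
      omega
    omega

end Cfsg.Agent.SUTri
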