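import Mathlib
import Cfsg.Agent.SUTri.Elts

set_option autoImplicit false
set_option linter.unusedSectionVars false
set_option linter.unusedVariables false
set_option linter.unnecessarySeqFocus false

/-!
# S2282 swarm, piece ACT3 (helper4): the action of `u3` and of `u3⁻¹` on a hyperbolic frame,
and the conjugacy `u3 = n0 * u1 * n0⁻¹`.

Interface (statements verbatim from `notes/S2282_stubs_helper8.lean.txt`):
`u3_e`, `u3_e_last`, `u3_inv_e`, `u3_inv_e0`, `u3_inv_d`, `u3_inv_f`, `u3_eq_conj`.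
Auxiliary names `h4_*`.
-/

namespace Cfsg.Agent.SUTri

open Matrix Cfsg Cfsg.Agent.Helper7.Herm Cfsg.Agent.Helper8.GUOrder Cfsg.Agent.Helper8.SURoot

variable {F : Type*} [Field F] [Fintype F] {q N : ℕ} [hF : Fact (Fintype.card F = q ^ 2)]
variable {m : ℕ} {e f : ℕ → Fin N → F} {d : Fin N → F}

/-! ### Small tools -/

theorem h4_inv_pow_q {s : F} (hs : s ^ q + s = 0) : (s⁻¹) ^ q = -s⁻¹ := by
  rw [inv_pow, eq_neg_of_add_eq_zero_left hs, inv_neg]

theorem h4_Ico_pred {m : ℕ} (hm : 1 ≤ m) : Finset.Ico (m - 1) m = {m - 1} := by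
  obtain ⟨n, rfl⟩ : ∃ n, m = n + 1 := ⟨m - 1, by omega⟩
  rw [Nat.add_sub_cancel]
  exact Nat.Ico_succ_singleton n

theorem h4_inv_eq {g : SU N F q} {x y : Fin N → F} (h : mt g *ᵥ x = y) : mt g⁻¹ *ᵥ y = x := by
  rw [← h, mt_inv_mulVec']

/-! ### The negative simple root elements `xn i` -/

theorem h4_xn_mulVec (fr : OFrame q N m e f d) {i : ℕ} (hi : i + 1 < m) (x : Fin N → F) :
    mt (xn q e f i) *ᵥ x
      = x + hermForm N F q x (e (i + 1)) • f i - hermForm N F q x (f i) • e (i + 1) := by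
  unfold xn
  rw [Sh_mulVec (fr.ff i i (by omega) (by omega)) (fr.ee (i + 1) (i + 1) hi hi)
    (by rw [fr.ef (i + 1) i hi (by omega), if_neg (by omega)]), one_mul, one_pow, one_mul]

theorem h4_xn_e (fr : OFrame q N m e f d) {i j : ℕ} (hi : i + 1 < m) (hj : j < m) (hji : j ≠ i) :
    mt (xn q e f i) *ᵥ e j = e j := by
  rw [h4_xn_mulVec fr hi, fr.ee j (i + 1) hj hi, fr.ef j i hj (by omega), if_neg hji, zero_smul,
    zero_smul, add_zero, sub_zero]

theorem h4_xn_e_self (fr : OFrame q N m e f d) {i : ℕ} (hi : i + 1 < m) :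
    mt (xn q e f i) *ᵥ e i = e i - e (i + 1) := by
  rw [h4_xn_mulVec fr hi, fr.ee i (i + 1) (by omega) hi, fr.ef i i (by omega) (by omega),
    if_pos rfl, zero_smul, one_smul, add_zero]

theorem h4_xn_f (fr : OFrame q N m e f d) {i j : ℕ} (hi : i + 1 < m) (hj : j < m)
    (hji : j ≠ i + 1) : mt (xn q e f i) *ᵥ f j = f j := by
  rw [h4_xn_mulVec fr hi, fr.fe j (i + 1) hj hi, if_neg hji, fr.ff j i hj (by omega), zero_smul,
    zero_smul, add_zero, sub_zero]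

theorem h4_xn_f_succ (fr : OFrame q N m e f d) {i : ℕ} (hi : i + 1 < m) :
    mt (xn q e f i) *ᵥ f (i + 1) = f (i + 1) + f i := by
  rw [h4_xn_mulVec fr hi, fr.fe (i + 1) (i + 1) hi hi, if_pos rfl, fr.ff (i + 1) i hi (by omega),
    one_smul, zero_smul, sub_zero]

theorem h4_xn_d (fr : OFrame q N m e f d) {i : ℕ} (hi : i + 1 < m) :
    mt (xn q e f i) *ᵥ d = d := by
  rw [h4_xn_mulVec fr hi, fr.de (i + 1) hi, fr.df i (by omega), zero_smul, zero_smul, add_zero,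
    sub_zero]

/-- `xn r` pushes the partial sum `f_{r+1} + ⋯ + f_{m-1}` to `f_r + ⋯ + f_{m-1}`. -/
theorem h4_xn_sum (fr : OFrame q N m e f d) {r : ℕ} (hr : r + 1 < m) :
    mt (xn q e f r) *ᵥ (∑ i ∈ Finset.Ico (r + 1) m, f i) = ∑ i ∈ Finset.Ico r m, f i := by
  rw [Finset.sum_eq_sum_Ico_succ_bot (by omega : r < m), Finset.sum_eq_sum_Ico_succ_bot hr,
    mulVec_add, h4_xn_f_succ fr hr, mulVec_sum]
  have : ∑ i ∈ Finset.Ico (r + 1 + 1) m, mt (xn q e f r) *ᵥ f i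
      = ∑ i ∈ Finset.Ico (r + 1 + 1) m, f i := by
    apply Finset.sum_congr rfl
    intro i hi
    rw [Finset.mem_Ico] at hi
    exact h4_xn_f fr hr hi.2 (by omega)
  rw [this]
  abel

/-! ### The opposite rank one element `Qn` -/

theorem h4_Qn_ok (fr : OFrame q N m e f d) (hm : 1 ≤ m) {s b : F} (hb : b + b ^ q + 1 = 0)
    (hs : s ^ q + s = 0) : SgOK q (f (m - 1)) (s⁻¹ • d) (-b * s⁻¹ * s⁻¹) := by
  refine ⟨fr.ff _ _ (by omega) (by omega), ?_, ?_⟩
  · rw [hermForm_smul_left, fr.df _ (by omega), mul_zero]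
  · rw [hermForm_smul_left, hermForm_smul_right, fr.dd, mul_pow, mul_pow, neg_pow_q hF.out,
      h4_inv_pow_q hs]
    linear_combination (-s⁻¹ * s⁻¹) * hb

theorem h4_Qn_mulVec (fr : OFrame q N m e f d) (hm : 1 ≤ m) {s b : F} (hb : b + b ^ q + 1 = 0)
    (hs : s ^ q + s = 0) (x : Fin N → F) :
    mt (Qn q f d m s b) *ᵥ x
      = x + hermForm N F q x (f (m - 1)) • (s⁻¹ • d) - hermForm N F q x (s⁻¹ • d) • f (m - 1)
        + (-b * s⁻¹ * s⁻¹ * hermForm N F q x (f (m - 1))) • f (m - 1) :=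
  Sg_mulVec (h4_Qn_ok fr hm hb hs) x

theorem h4_Qn_e (fr : OFrame q N m e f d) (hm : 1 ≤ m) {s b : F} (hb : b + b ^ q + 1 = 0)
    (hs : s ^ q + s = 0) {j : ℕ} (hj : j + 1 < m) : mt (Qn q f d m s b) *ᵥ e j = e j := by
  rw [h4_Qn_mulVec fr hm hb hs, fr.ef j (m - 1) (by omega) (by omega), if_neg (by omega),
    hermForm_smul_right, fr.ed j (by omega)]
  simp

theorem h4_Qn_e_last (fr : OFrame q N m e f d) (hm : 1 ≤ m) {s b : F} (hb : b + b ^ q + 1 = 0)
    (hs : s ^ q + s = 0) :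
    mt (Qn q f d m s b) *ᵥ e (m - 1) = e (m - 1) + s⁻¹ • d - (b * s⁻¹ * s⁻¹) • f (m - 1) := by
  rw [h4_Qn_mulVec fr hm hb hs, fr.ef (m - 1) (m - 1) (by omega) (by omega), if_pos rfl,
    hermForm_smul_right, fr.ed (m - 1) (by omega)]
  module

theorem h4_Qn_d (fr : OFrame q N m e f d) (hm : 1 ≤ m) {s b : F} (hb : b + b ^ q + 1 = 0)
    (hs : s ^ q + s = 0) :
    mt (Qn q f d m s b) *ᵥ d = d + s⁻¹ • f (m - 1) := by
  rw [h4_Qn_mulVec fr hm hb hs, fr.df (m - 1) (by omega), hermForm_smul_right, fr.dd,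
    h4_inv_pow_q hs]
  module

theorem h4_Qn_f (fr : OFrame q N m e f d) (hm : 1 ≤ m) {s b : F} (hb : b + b ^ q + 1 = 0)
    (hs : s ^ q + s = 0) {j : ℕ} (hj : j < m) : mt (Qn q f d m s b) *ᵥ f j = f j := by
  rw [h4_Qn_mulVec fr hm hb hs, fr.ff j (m - 1) hj (by omega), hermForm_smul_right, fr.fd j hj]
  simp

/-! ### Forward tables for `Rn k = xn r * ⋯ * xn (m-2) * Qn`, `r + k + 1 = m` -/

theorem h4_Rn_succ (s b : F) {k r : ℕ} (h : r + (k + 1) + 1 = m) :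
    Rn q e f d m s b (k + 1) = xn q e f r * Rn q e f d m s b k := by
  have : m - 2 - k = r := by omega
  show xn q e f (m - 2 - k) * Rn q e f d m s b k = _
  rw [this]

theorem h4_Rn_e_lt (fr : OFrame q N m e f d) {s b : F} (hb : b + b ^ q + 1 = 0)
    (hs : s ^ q + s = 0) (k : ℕ) : ∀ r, r + k + 1 = m → ∀ j, j < r →
    mt (Rn q e f d m s b k) *ᵥ e j = e j := by
  induction k with
  | zero =>
    intro r h j hj
    exact h4_Qn_e fr (by omega) hb hs (by omega)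
  | succ k ih =>
    intro r h j hj
    rw [h4_Rn_succ s b h, mt_mul_mulVec, ih (r + 1) (by omega) j (by omega),
      h4_xn_e fr (by omega) (by omega) (by omega)]

theorem h4_Rn_e (fr : OFrame q N m e f d) {s b : F} (hb : b + b ^ q + 1 = 0)
    (hs : s ^ q + s = 0) (k : ℕ) : ∀ r, r + k + 1 = m → ∀ j, r ≤ j → j + 1 < m →
    mt (Rn q e f d m s b k) *ᵥ e j = e j - e (j + 1) := by
  induction k with
  | zero =>
    intro r h j hj hjm
    omega
  | succ k ih =>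
    intro r h j hj hjm
    rw [h4_Rn_succ s b h, mt_mul_mulVec]
    rcases Nat.eq_or_lt_of_le hj with rfl | hlt
    · rw [h4_Rn_e_lt fr hb hs k (r + 1) (by omega) r (by omega), h4_xn_e_self fr (by omega)]
    · rw [ih (r + 1) (by omega) j (by omega) hjm, mulVec_sub,
        h4_xn_e fr (by omega) (by omega) (by omega), h4_xn_e fr (by omega) (by omega) (by omega)]

theorem h4_Rn_e_last (fr : OFrame q N m e f d) {s b : F} (hb : b + b ^ q + 1 = 0)
    (hs : s ^ q + s = 0) (k : ℕ) : ∀ r, r + k + 1 = m →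
    mt (Rn q e f d m s b k) *ᵥ e (m - 1)
      = e (m - 1) + s⁻¹ • d - (b * s⁻¹ * s⁻¹) • ∑ i ∈ Finset.Ico r m, f i := by
  induction k with
  | zero =>
    intro r h
    have hr : r = m - 1 := by omega
    rw [hr, h4_Ico_pred (by omega), Finset.sum_singleton]
    exact h4_Qn_e_last fr (by omega) hb hs
  | succ k ih =>
    intro r h
    rw [h4_Rn_succ s b h, mt_mul_mulVec, ih (r + 1) (by omega), mulVec_sub, mulVec_add,
      mulVec_smul, mulVec_smul, h4_xn_sum fr (by omega), h4_xn_d fr (by omega),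
      h4_xn_e fr (by omega) (by omega) (by omega)]

/-! ### Inverses of the factors -/

theorem h4_xni_e (fr : OFrame q N m e f d) {i j : ℕ} (hi : i + 1 < m) (hj : j < m) (hji : j ≠ i) :
    mt (xn q e f i)⁻¹ *ᵥ e j = e j := h4_inv_eq (h4_xn_e fr hi hj hji)

theorem h4_xni_e_self (fr : OFrame q N m e f d) {i : ℕ} (hi : i + 1 < m) :
    mt (xn q e f i)⁻¹ *ᵥ e i = e i + e (i + 1) := by
  apply h4_inv_eq
  rw [mulVec_add, h4_xn_e_self fr hi, h4_xn_e fr hi hi (by omega)]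
  abel

theorem h4_xni_f (fr : OFrame q N m e f d) {i j : ℕ} (hi : i + 1 < m) (hj : j < m)
    (hji : j ≠ i + 1) : mt (xn q e f i)⁻¹ *ᵥ f j = f j := h4_inv_eq (h4_xn_f fr hi hj hji)

theorem h4_xni_f_succ (fr : OFrame q N m e f d) {i : ℕ} (hi : i + 1 < m) :
    mt (xn q e f i)⁻¹ *ᵥ f (i + 1) = f (i + 1) - f i := by
  apply h4_inv_eq
  rw [mulVec_sub, h4_xn_f_succ fr hi, h4_xn_f fr hi (by omega) (by omega)]
  abel

theorem h4_xni_d (fr : OFrame q N m e f d) {i : ℕ} (hi : i + 1 < m) :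
    mt (xn q e f i)⁻¹ *ᵥ d = d := h4_inv_eq (h4_xn_d fr hi)

theorem h4_Qni_e (fr : OFrame q N m e f d) (hm : 1 ≤ m) {s b : F} (hb : b + b ^ q + 1 = 0)
    (hs : s ^ q + s = 0) {j : ℕ} (hj : j + 1 < m) : mt (Qn q f d m s b)⁻¹ *ᵥ e j = e j :=
  h4_inv_eq (h4_Qn_e fr hm hb hs hj)

theorem h4_Qni_f (fr : OFrame q N m e f d) (hm : 1 ≤ m) {s b : F} (hb : b + b ^ q + 1 = 0)
    (hs : s ^ q + s = 0) {j : ℕ} (hj : j < m) : mt (Qn q f d m s b)⁻¹ *ᵥ f j = f j :=
  h4_inv_eq (h4_Qn_f fr hm hb hs hj)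

theorem h4_Qni_d (fr : OFrame q N m e f d) (hm : 1 ≤ m) {s b : F} (hb : b + b ^ q + 1 = 0)
    (hs : s ^ q + s = 0) : mt (Qn q f d m s b)⁻¹ *ᵥ d = d - s⁻¹ • f (m - 1) := by
  apply h4_inv_eq
  rw [mulVec_sub, mulVec_smul, h4_Qn_d fr hm hb hs, h4_Qn_f fr hm hb hs (by omega)]
  abel

theorem h4_Qni_e_last (fr : OFrame q N m e f d) (hm : 1 ≤ m) {s b : F} (hb : b + b ^ q + 1 = 0)
    (hs : s ^ q + s = 0) :
    mt (Qn q f d m s b)⁻¹ *ᵥ e (m - 1)
      = e (m - 1) - s⁻¹ • d - (s⁻¹ * s⁻¹ * b ^ q) • f (m - 1) := by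
  apply h4_inv_eq
  have hb' : b ^ q = -1 - b := by linear_combination hb
  rw [mulVec_sub, mulVec_sub, mulVec_smul, mulVec_smul, h4_Qn_d fr hm hb hs,
    h4_Qn_f fr hm hb hs (by omega), h4_Qn_e_last fr hm hb hs, hb']
  module

/-! ### Inverse tables for `(Rn k)⁻¹`, `r + k + 1 = m` -/

theorem h4_Rni_succ (s b : F) {k r : ℕ} (h : r + (k + 1) + 1 = m) (x : Fin N → F) :
    mt (Rn q e f d m s b (k + 1))⁻¹ *ᵥ x
      = mt (Rn q e f d m s b k)⁻¹ *ᵥ (mt (xn q e f r)⁻¹ *ᵥ x) := by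
  rw [h4_Rn_succ s b h, _root_.mul_inv_rev, mt_mul_mulVec]

theorem h4_Rni_e_lt (fr : OFrame q N m e f d) {s b : F} (hb : b + b ^ q + 1 = 0)
    (hs : s ^ q + s = 0) (k : ℕ) : ∀ r, r + k + 1 = m → ∀ j, j < r →
    mt (Rn q e f d m s b k)⁻¹ *ᵥ e j = e j := by
  induction k with
  | zero =>
    intro r h j hj
    exact h4_Qni_e fr (by omega) hb hs (by omega)
  | succ k ih =>
    intro r h j hj
    rw [h4_Rni_succ s b h, h4_xni_e fr (by omega) (by omega) (by omega),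
      ih (r + 1) (by omega) j (by omega)]

theorem h4_Rni_e (fr : OFrame q N m e f d) {s b : F} (hb : b + b ^ q + 1 = 0)
    (hs : s ^ q + s = 0) (k : ℕ) : ∀ r, r + k + 1 = m → ∀ j, r ≤ j → j < m →
    mt (Rn q e f d m s b k)⁻¹ *ᵥ e j
      = ∑ i ∈ Finset.Ico j m, e i - s⁻¹ • d - (s⁻¹ * s⁻¹ * b ^ q) • f (m - 1) := by
  induction k with
  | zero =>
    intro r h j hj hjm
    have hr : j = m - 1 := by omega
    rw [hr, h4_Ico_pred (by omega), Finset.sum_singleton]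
    exact h4_Qni_e_last fr (by omega) hb hs
  | succ k ih =>
    intro r h j hj hjm
    rw [h4_Rni_succ s b h]
    rcases Nat.eq_or_lt_of_le hj with rfl | hlt
    · rw [h4_xni_e_self fr (by omega), mulVec_add,
        h4_Rni_e_lt fr hb hs k (r + 1) (by omega) r (by omega),
        ih (r + 1) (by omega) (r + 1) le_rfl (by omega),
        Finset.sum_eq_sum_Ico_succ_bot (by omega : r < m)]
      abel
    · rw [h4_xni_e fr (by omega) hjm (by omega), ih (r + 1) (by omega) j (by omega) hjm]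

theorem h4_Rni_d (fr : OFrame q N m e f d) {s b : F} (hb : b + b ^ q + 1 = 0)
    (hs : s ^ q + s = 0) (k : ℕ) : ∀ r, r + k + 1 = m →
    mt (Rn q e f d m s b k)⁻¹ *ᵥ d = d - s⁻¹ • f (m - 1) := by
  induction k with
  | zero =>
    intro r h
    exact h4_Qni_d fr (by omega) hb hs
  | succ k ih =>
    intro r h
    rw [h4_Rni_succ s b h, h4_xni_d fr (by omega), ih (r + 1) (by omega)]

theorem h4_Rni_f_le (fr : OFrame q N m e f d) {s b : F} (hb : b + b ^ q + 1 = 0)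
    (hs : s ^ q + s = 0) (k : ℕ) : ∀ r, r + k + 1 = m → ∀ j, j ≤ r →
    mt (Rn q e f d m s b k)⁻¹ *ᵥ f j = f j := by
  induction k with
  | zero =>
    intro r h j hj
    exact h4_Qni_f fr (by omega) hb hs (by omega)
  | succ k ih =>
    intro r h j hj
    rw [h4_Rni_succ s b h, h4_xni_f fr (by omega) (by omega) (by omega),
      ih (r + 1) (by omega) j (by omega)]

theorem h4_Rni_f (fr : OFrame q N m e f d) {s b : F} (hb : b + b ^ q + 1 = 0)
    (hs : s ^ q + s = 0) (k : ℕ) : ∀ r, r + k + 1 = m → ∀ j, r ≤ j → j + 1 < m →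
    mt (Rn q e f d m s b k)⁻¹ *ᵥ f (j + 1) = f (j + 1) - f j := by
  induction k with
  | zero =>
    intro r h j hj hjm
    omega
  | succ k ih =>
    intro r h j hj hjm
    rw [h4_Rni_succ s b h]
    rcases Nat.eq_or_lt_of_le hj with rfl | hlt
    · rw [h4_xni_f_succ fr (by omega), mulVec_sub,
        h4_Rni_f_le fr hb hs k (r + 1) (by omega) (r + 1) le_rfl,
        h4_Rni_f_le fr hb hs k (r + 1) (by omega) r (by omega)]
    · rw [h4_xni_f fr (by omega) (by omega) (by omega), ih (r + 1) (by omega) j (by omega) hjm]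

/-! ### The interface: the action of `u3` and `u3⁻¹` -/

theorem u3_e (fr : OFrame q N m e f d) (hm : 2 ≤ m) {s b : F} (hb : b + b ^ q + 1 = 0)
    (hs : s ^ q + s = 0) (hs0 : s ≠ 0) (j : ℕ) (hj : j + 1 < m) :
    mt (u3 q e f d m s b) *ᵥ e j = e j - e (j + 1) :=
  h4_Rn_e fr hb hs (m - 1) 0 (by omega) j (Nat.zero_le j) hj

theorem u3_e_last (fr : OFrame q N m e f d) (hm : 2 ≤ m) {s b : F} (hb : b + b ^ q + 1 = 0)
    (hs : s ^ q + s = 0) (hs0 : s ≠ 0) :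
    mt (u3 q e f d m s b) *ᵥ e (m - 1)
      = e (m - 1) + s⁻¹ • d - (b * s⁻¹ * s⁻¹) • ∑ i ∈ Finset.range m, f i := by
  rw [Finset.range_eq_Ico]
  exact h4_Rn_e_last fr hb hs (m - 1) 0 (by omega)

theorem u3_inv_e (fr : OFrame q N m e f d) (hm : 2 ≤ m) {s b : F} (hb : b + b ^ q + 1 = 0)
    (hs : s ^ q + s = 0) (hs0 : s ≠ 0) (j : ℕ) (hj : j < m) :
    mt (u3 q e f d m s b)⁻¹ *ᵥ e j
      = ∑ i ∈ Finset.Ico j m, e i - s⁻¹ • d - (s⁻¹ * s⁻¹ * b ^ q) • f (m - 1) :=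
  h4_Rni_e fr hb hs (m - 1) 0 (by omega) j (Nat.zero_le j) hj

theorem u3_inv_e0 (fr : OFrame q N m e f d) (hm : 2 ≤ m) {s b : F} (hb : b + b ^ q + 1 = 0)
    (hs : s ^ q + s = 0) (hs0 : s ≠ 0) :
    mt (u3 q e f d m s b)⁻¹ *ᵥ e 0 = p1 q e f d m s b := by
  rw [u3_inv_e fr hm hb hs hs0 0 (by omega)]
  unfold p1
  rw [Finset.range_eq_Ico]

theorem u3_inv_d (fr : OFrame q N m e f d) (hm : 2 ≤ m) {s b : F} (hb : b + b ^ q + 1 = 0)
    (hs : s ^ q + s = 0) (hs0 : s ≠ 0) :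
    mt (u3 q e f d m s b)⁻¹ *ᵥ d = d - s⁻¹ • f (m - 1) :=
  h4_Rni_d fr hb hs (m - 1) 0 (by omega)

theorem u3_inv_f (fr : OFrame q N m e f d) (hm : 2 ≤ m) {s b : F} (hb : b + b ^ q + 1 = 0)
    (hs : s ^ q + s = 0) (hs0 : s ≠ 0) (j : ℕ) (hj : j + 1 < m) :
    mt (u3 q e f d m s b)⁻¹ *ᵥ f (j + 1) = f (j + 1) - f j :=
  h4_Rni_f fr hb hs (m - 1) 0 (by omega) j (Nat.zero_le j) hj

/-! ### The Weyl elements `wy i` and `n0 k` -/

theorem h4_tz_neg_inv {s : F} (hs : s ^ q + s = 0) : (-s⁻¹) ^ q + -s⁻¹ = 0 := by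
  rw [neg_pow_q hF.out, h4_inv_pow_q hs]
  ring

theorem h4_wy_mulVec (fr : OFrame q N m e f d) {s : F} (hs : s ^ q + s = 0) (hs0 : s ≠ 0) {i : ℕ}
    (hi : i < m) (x : Fin N → F) :
    mt (wy q e f s i) *ᵥ x
      = x + (s * hermForm N F q x (e i) - hermForm N F q x (f i)) • e i
        - (s⁻¹ * hermForm N F q x (f i) + hermForm N F q x (e i)) • f i := by
  have hee := fr.ee i i hi hi
  have hff := fr.ff i i hi hi
  have hef := fr.ef i i hi hi
  have hfe := fr.fe i i hi hi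
  rw [if_pos rfl] at hef hfe
  unfold wy
  rw [mt_mul_mulVec, mt_mul_mulVec, TU_mulVec hee hs, TU_mulVec hff (h4_tz_neg_inv hs),
    TU_mulVec hee hs]
  simp only [hermForm_add_left, hermForm_smul_left, hee, hef, hfe, mul_zero, add_zero,
    mul_one]
  match_scalars <;> field_simp <;> ring

theorem h4_wy_e_self (fr : OFrame q N m e f d) {s : F} (hs : s ^ q + s = 0) (hs0 : s ≠ 0) {i : ℕ}
    (hi : i < m) : mt (wy q e f s i) *ᵥ e i = -s⁻¹ • f i := by
  rw [h4_wy_mulVec fr hs hs0 hi, fr.ee i i hi hi, fr.ef i i hi hi, if_pos rfl]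
  module

theorem h4_wy_f_self (fr : OFrame q N m e f d) {s : F} (hs : s ^ q + s = 0) (hs0 : s ≠ 0) {i : ℕ}
    (hi : i < m) : mt (wy q e f s i) *ᵥ f i = s • e i := by
  rw [h4_wy_mulVec fr hs hs0 hi, fr.ff i i hi hi, fr.fe i i hi hi, if_pos rfl]
  module

theorem h4_wy_fix (fr : OFrame q N m e f d) {s : F} (hs : s ^ q + s = 0) (hs0 : s ≠ 0) {i : ℕ}
    (hi : i < m) {x : Fin N → F} (hxe : hermForm N F q x (e i) = 0)
    (hxf : hermForm N F q x (f i) = 0) : mt (wy q e f s i) *ᵥ x = x := by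
  rw [h4_wy_mulVec fr hs hs0 hi, hxe, hxf]
  module

theorem h4_n0_succ (s : F) (k : ℕ) (x : Fin N → F) :
    mt (n0 q e f s (k + 1)) *ᵥ x = mt (wy q e f s k) *ᵥ (mt (n0 q e f s k) *ᵥ x) := by
  show mt (wy q e f s k * n0 q e f s k) *ᵥ x = _
  rw [mt_mul_mulVec]

theorem h4_n0_e_ge (fr : OFrame q N m e f d) {s : F} (hs : s ^ q + s = 0) (hs0 : s ≠ 0) (k : ℕ) :
    k ≤ m → ∀ j, k ≤ j → j < m → mt (n0 q e f s k) *ᵥ e j = e j := by
  induction k with
  | zero =>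
    intro _ j _ _
    exact mt_one_mulVec _
  | succ k ih =>
    intro hk j hj hjm
    rw [h4_n0_succ, ih (by omega) j (by omega) hjm]
    exact h4_wy_fix fr hs hs0 (by omega) (fr.ee j k hjm (by omega))
      (by rw [fr.ef j k hjm (by omega), if_neg (by omega)])

theorem h4_n0_f_ge (fr : OFrame q N m e f d) {s : F} (hs : s ^ q + s = 0) (hs0 : s ≠ 0) (k : ℕ) :
    k ≤ m → ∀ j, k ≤ j → j < m → mt (n0 q e f s k) *ᵥ f j = f j := by
  induction k with
  | zero =>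
    intro _ j _ _
    exact mt_one_mulVec _
  | succ k ih =>
    intro hk j hj hjm
    rw [h4_n0_succ, ih (by omega) j (by omega) hjm]
    exact h4_wy_fix fr hs hs0 (by omega)
      (by rw [fr.fe j k hjm (by omega), if_neg (by omega)]) (fr.ff j k hjm (by omega))

theorem h4_n0_e_lt (fr : OFrame q N m e f d) {s : F} (hs : s ^ q + s = 0) (hs0 : s ≠ 0) (k : ℕ) :
    k ≤ m → ∀ j, j < k → mt (n0 q e f s k) *ᵥ e j = -s⁻¹ • f j := by
  induction k with
  | zero =>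
    intro _ j hj
    omega
  | succ k ih =>
    intro hk j hj
    rw [h4_n0_succ]
    rcases Nat.eq_or_lt_of_le (Nat.lt_succ_iff.mp hj) with rfl | hlt
    · rw [h4_n0_e_ge fr hs hs0 j (by omega) j le_rfl (by omega),
        h4_wy_e_self fr hs hs0 (by omega)]
    · rw [ih (by omega) j hlt, mulVec_smul]
      congr 1
      exact h4_wy_fix fr hs hs0 (by omega)
        (by rw [fr.fe j k (by omega) (by omega), if_neg (by omega)])
        (fr.ff j k (by omega) (by omega))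

theorem h4_n0_f_lt (fr : OFrame q N m e f d) {s : F} (hs : s ^ q + s = 0) (hs0 : s ≠ 0) (k : ℕ) :
    k ≤ m → ∀ j, j < k → mt (n0 q e f s k) *ᵥ f j = s • e j := by
  induction k with
  | zero =>
    intro _ j hj
    omega
  | succ k ih =>
    intro hk j hj
    rw [h4_n0_succ]
    rcases Nat.eq_or_lt_of_le (Nat.lt_succ_iff.mp hj) with rfl | hlt
    · rw [h4_n0_f_ge fr hs hs0 j (by omega) j le_rfl (by omega),
        h4_wy_f_self fr hs hs0 (by omega)]
    · rw [ih (by omega) j hlt, mulVec_smul]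
      congr 1
      exact h4_wy_fix fr hs hs0 (by omega) (fr.ee j k (by omega) (by omega))
        (by rw [fr.ef j k (by omega) (by omega), if_neg (by omega)])

theorem h4_n0_d (fr : OFrame q N m e f d) {s : F} (hs : s ^ q + s = 0) (hs0 : s ≠ 0) (k : ℕ) :
    k ≤ m → mt (n0 q e f s k) *ᵥ d = d := by
  induction k with
  | zero =>
    intro _
    exact mt_one_mulVec _
  | succ k ih =>
    intro hk
    rw [h4_n0_succ, ih (by omega)]
    exact h4_wy_fix fr hs hs0 (by omega) (fr.de k (by omega)) (fr.df k (by omega))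

/-! ### Rescaling short root elements -/

theorem h4_Sh_smul_smul {p v : Fin N → F} (hp : hermForm N F q p p = 0)
    (hv : hermForm N F q v v = 0) (hvp : hermForm N F q v p = 0) (a lam mu : F) :
    Sh q (lam • p) (mu • v) a = Sh q p v (a * lam * mu ^ q) := by
  apply ext_mulVec
  intro x
  rw [Sh_mulVec (by rw [hermForm_smul_smul, hp, mul_zero])
      (by rw [hermForm_smul_smul, hv, mul_zero])
      (by rw [hermForm_smul_left, hermForm_smul_right, hvp, mul_zero, mul_zero]),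
    Sh_mulVec hp hv hvp, hermForm_smul_right, hermForm_smul_right, mul_pow, mul_pow,
    pow_q_pow_q hF.out]
  module

/-! ### Conjugating `u1` by `n0 m` -/

theorem h4_conj_xr (fr : OFrame q N m e f d) {s : F} (hs : s ^ q + s = 0) (hs0 : s ≠ 0) {i : ℕ}
    (hi : i + 1 < m) :
    n0 q e f s m * xr q e f i 1 * (n0 q e f s m)⁻¹ = xn q e f i := by
  unfold xr xn
  have hvp : hermForm N F q (f (i + 1)) (e i) = 0 := by
    rw [fr.fe (i + 1) i hi (by omega), if_neg (by omega)]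
  have hvp' : hermForm N F q (e (i + 1)) (f i) = 0 := by
    rw [fr.ef (i + 1) i hi (by omega), if_neg (by omega)]
  rw [conj_Sh _ (fr.ee i i (by omega) (by omega)) (fr.ff (i + 1) (i + 1) hi hi) hvp,
    h4_n0_e_lt fr hs hs0 m le_rfl i (by omega), h4_n0_f_lt fr hs hs0 m le_rfl (i + 1) hi,
    h4_Sh_smul_smul (fr.ff i i (by omega) (by omega)) (fr.ee (i + 1) (i + 1) hi hi) hvp']
  congr 1
  rw [eq_neg_of_add_eq_zero_left hs]
  field_simp

theorem h4_conj_Qm (fr : OFrame q N m e f d) (hm : 1 ≤ m) {s b : F} (hb : b + b ^ q + 1 = 0)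
    (hs : s ^ q + s = 0) (hs0 : s ≠ 0) :
    n0 q e f s m * Qm q e d m b * (n0 q e f s m)⁻¹ = Qn q f d m s b := by
  unfold Qm Qn
  have hok : SgOK q (e (m - 1)) d b :=
    ⟨fr.ee _ _ (by omega) (by omega), fr.de _ (by omega), by rw [fr.dd]; exact hb⟩
  have hok' : SgOK q (f (m - 1)) d b :=
    ⟨fr.ff _ _ (by omega) (by omega), fr.df _ (by omega), by rw [fr.dd]; exact hb⟩
  rw [conj_Sg _ hok, h4_n0_e_lt fr hs hs0 m le_rfl (m - 1) (by omega),
    h4_n0_d fr hs hs0 m le_rfl, Sg_smul_left hok' (neg_ne_zero.mpr (inv_ne_zero hs0)),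
    neg_pow_q hF.out, h4_inv_pow_q hs, neg_neg]
  congr 1
  ring

theorem h4_conj_Rp (fr : OFrame q N m e f d) {s b : F} (hb : b + b ^ q + 1 = 0)
    (hs : s ^ q + s = 0) (hs0 : s ≠ 0) (k : ℕ) : k + 1 ≤ m →
    n0 q e f s m * Rp q e f d m b k * (n0 q e f s m)⁻¹ = Rn q e f d m s b k := by
  induction k with
  | zero =>
    intro hk
    exact h4_conj_Qm fr hk hb hs hs0
  | succ k ih =>
    intro hk
    show n0 q e f s m * (xr q e f (m - 2 - k) 1 * Rp q e f d m b k) * (n0 q e f s m)⁻¹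
      = xn q e f (m - 2 - k) * Rn q e f d m s b k
    rw [← ih (by omega), ← h4_conj_xr fr hs hs0 (by omega : m - 2 - k + 1 < m)]
    group

theorem u3_eq_conj (fr : OFrame q N m e f d) (hm : 2 ≤ m) {s b : F} (hb : b + b ^ q + 1 = 0)
    (hs : s ^ q + s = 0) (hs0 : s ≠ 0) :
    u3 q e f d m s b = n0 q e f s m * u1 q e f d m b * (n0 q e f s m)⁻¹ :=
  (h4_conj_Rp fr hb hs hs0 (m - 1) (by omega)).symm

end Cfsg.Agent.SUTri
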