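import Mathlib
import Cfsg.Agent.SUTri.H4_U3

set_option autoImplicit false
set_option linter.unusedSectionVars false
set_option linter.unusedVariables false

/-!
# S2282 swarm (helper4, fallback for ACT1): the action of `u1` on a hyperbolic frame

`h4_u1_e`, `h4_u1_d`, `h4_u1_f_last`, `h4_u1_f` have the statements of the stubs `u1_e`, `u1_d`,
`u1_f_last`, `u1_f` of `notes/S2282_stubs_helper8.lean.txt`.
-/

namespace Cfsg.Agent.SUTri

open Matrix Cfsg Cfsg.Agent.Helper7.Herm Cfsg.Agent.Helper8.GUOrder Cfsg.Agent.Helper8.SURoot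

variable {F : Type*} [Field F] [Fintype F] {q N : ℕ} [hF : Fact (Fintype.card F = q ^ 2)]
variable {m : ℕ} {e f : ℕ → Fin N → F} {d : Fin N → F}

/-! ### The positive simple root elements `xr i 1` -/

theorem h4_xr_mulVec (fr : OFrame q N m e f d) {i : ℕ} (hi : i + 1 < m) (x : Fin N → F) :
    mt (xr q e f i 1) *ᵥ x
      = x + hermForm N F q x (f (i + 1)) • e i - hermForm N F q x (e i) • f (i + 1) := by
  unfold xr
  rw [Sh_mulVec (fr.ee i i (by omega) (by omega)) (fr.ff (i + 1) (i + 1) hi hi)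
    (by rw [fr.fe (i + 1) i hi (by omega), if_neg (by omega)]), one_mul, one_pow, one_mul]

theorem h4_xr_e (fr : OFrame q N m e f d) {i j : ℕ} (hi : i + 1 < m) (hj : j < m)
    (hji : j ≠ i + 1) : mt (xr q e f i 1) *ᵥ e j = e j := by
  rw [h4_xr_mulVec fr hi, fr.ef j (i + 1) hj hi, if_neg hji, fr.ee j i hj (by omega), zero_smul,
    zero_smul, add_zero, sub_zero]

theorem h4_xr_e_succ (fr : OFrame q N m e f d) {i : ℕ} (hi : i + 1 < m) :
    mt (xr q e f i 1) *ᵥ e (i + 1) = e (i + 1) + e i := by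
  rw [h4_xr_mulVec fr hi, fr.ef (i + 1) (i + 1) hi hi, if_pos rfl, fr.ee (i + 1) i hi (by omega),
    one_smul, zero_smul, sub_zero]

theorem h4_xr_f (fr : OFrame q N m e f d) {i j : ℕ} (hi : i + 1 < m) (hj : j < m) (hji : j ≠ i) :
    mt (xr q e f i 1) *ᵥ f j = f j := by
  rw [h4_xr_mulVec fr hi, fr.ff j (i + 1) hj hi, fr.fe j i hj (by omega), if_neg hji, zero_smul,
    zero_smul, add_zero, sub_zero]

theorem h4_xr_f_self (fr : OFrame q N m e f d) {i : ℕ} (hi : i + 1 < m) :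
    mt (xr q e f i 1) *ᵥ f i = f i - f (i + 1) := by
  rw [h4_xr_mulVec fr hi, fr.ff i (i + 1) (by omega) hi, fr.fe i i (by omega) (by omega),
    if_pos rfl, zero_smul, one_smul, add_zero]

theorem h4_xr_d (fr : OFrame q N m e f d) {i : ℕ} (hi : i + 1 < m) :
    mt (xr q e f i 1) *ᵥ d = d := by
  rw [h4_xr_mulVec fr hi, fr.df (i + 1) hi, fr.de i (by omega), zero_smul, zero_smul, add_zero,
    sub_zero]

/-- `xr r 1` pushes the partial sum `e_{r+1} + ⋯ + e_{n-1}` to `e_r + ⋯ + e_{n-1}`. -/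
theorem h4_xr_sum (fr : OFrame q N m e f d) {r n : ℕ} (hr : r + 1 < n) (hn : n ≤ m) :
    mt (xr q e f r 1) *ᵥ (∑ i ∈ Finset.Ico (r + 1) n, e i) = ∑ i ∈ Finset.Ico r n, e i := by
  rw [Finset.sum_eq_sum_Ico_succ_bot (by omega : r < n), Finset.sum_eq_sum_Ico_succ_bot hr,
    mulVec_add, h4_xr_e_succ fr (by omega), mulVec_sum]
  have : ∑ i ∈ Finset.Ico (r + 1 + 1) n, mt (xr q e f r 1) *ᵥ e i
      = ∑ i ∈ Finset.Ico (r + 1 + 1) n, e i := by
    apply Finset.sum_congr rfl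
    intro i hi
    rw [Finset.mem_Ico] at hi
    exact h4_xr_e fr (by omega) (by omega) (by omega)
  rw [this]
  abel

/-! ### The rank one element `Qm` -/

theorem h4_Qm_ok (fr : OFrame q N m e f d) (hm : 1 ≤ m) {b : F} (hb : b + b ^ q + 1 = 0) :
    SgOK q (e (m - 1)) d b :=
  ⟨fr.ee _ _ (by omega) (by omega), fr.de _ (by omega), by rw [fr.dd]; exact hb⟩

theorem h4_Qm_mulVec (fr : OFrame q N m e f d) (hm : 1 ≤ m) {b : F} (hb : b + b ^ q + 1 = 0)
    (x : Fin N → F) :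
    mt (Qm q e d m b) *ᵥ x
      = x + hermForm N F q x (e (m - 1)) • d - hermForm N F q x d • e (m - 1)
        + (b * hermForm N F q x (e (m - 1))) • e (m - 1) :=
  Sg_mulVec (h4_Qm_ok fr hm hb) x

theorem h4_Qm_e (fr : OFrame q N m e f d) (hm : 1 ≤ m) {b : F} (hb : b + b ^ q + 1 = 0) {j : ℕ}
    (hj : j < m) : mt (Qm q e d m b) *ᵥ e j = e j := by
  rw [h4_Qm_mulVec fr hm hb, fr.ee j (m - 1) hj (by omega), fr.ed j hj]
  simp

theorem h4_Qm_d (fr : OFrame q N m e f d) (hm : 1 ≤ m) {b : F} (hb : b + b ^ q + 1 = 0) :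
    mt (Qm q e d m b) *ᵥ d = d - e (m - 1) := by
  rw [h4_Qm_mulVec fr hm hb, fr.de (m - 1) (by omega), fr.dd]
  simp

theorem h4_Qm_f_last (fr : OFrame q N m e f d) (hm : 1 ≤ m) {b : F} (hb : b + b ^ q + 1 = 0) :
    mt (Qm q e d m b) *ᵥ f (m - 1) = f (m - 1) + d + b • e (m - 1) := by
  rw [h4_Qm_mulVec fr hm hb, fr.fe (m - 1) (m - 1) (by omega) (by omega), if_pos rfl,
    fr.fd (m - 1) (by omega)]
  simp

theorem h4_Qm_f (fr : OFrame q N m e f d) (hm : 1 ≤ m) {b : F} (hb : b + b ^ q + 1 = 0) {j : ℕ}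
    (hj : j + 1 < m) : mt (Qm q e d m b) *ᵥ f j = f j := by
  rw [h4_Qm_mulVec fr hm hb, fr.fe j (m - 1) (by omega) (by omega), if_neg (by omega),
    fr.fd j (by omega)]
  simp

/-! ### Tables for `Rp k = xr r 1 * ⋯ * xr (m-2) 1 * Qm`, `r + k + 1 = m` -/

theorem h4_Rp_succ (b : F) {k r : ℕ} (h : r + (k + 1) + 1 = m) :
    Rp q e f d m b (k + 1) = xr q e f r 1 * Rp q e f d m b k := by
  have : m - 2 - k = r := by omega
  show xr q e f (m - 2 - k) 1 * Rp q e f d m b k = _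
  rw [this]

theorem h4_Rp_e_le (fr : OFrame q N m e f d) {b : F} (hb : b + b ^ q + 1 = 0) (k : ℕ) :
    ∀ r, r + k + 1 = m → ∀ j, j ≤ r → mt (Rp q e f d m b k) *ᵥ e j = e j := by
  induction k with
  | zero =>
    intro r h j hj
    exact h4_Qm_e fr (by omega) hb (by omega)
  | succ k ih =>
    intro r h j hj
    rw [h4_Rp_succ b h, mt_mul_mulVec, ih (r + 1) (by omega) j (by omega),
      h4_xr_e fr (by omega) (by omega) (by omega)]

theorem h4_Rp_e (fr : OFrame q N m e f d) {b : F} (hb : b + b ^ q + 1 = 0) (k : ℕ) :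
    ∀ r, r + k + 1 = m → ∀ j, r ≤ j → j < m →
    mt (Rp q e f d m b k) *ᵥ e j = ∑ i ∈ Finset.Ico r (j + 1), e i := by
  induction k with
  | zero =>
    intro r h j hj hjm
    have hr : r = j := by omega
    rw [hr, Nat.Ico_succ_singleton, Finset.sum_singleton]
    exact h4_Qm_e fr (by omega) hb hjm
  | succ k ih =>
    intro r h j hj hjm
    rw [h4_Rp_succ b h, mt_mul_mulVec]
    rcases Nat.eq_or_lt_of_le hj with rfl | hlt
    · rw [h4_Rp_e_le fr hb k (r + 1) (by omega) r (by omega),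
        h4_xr_e fr (by omega) (by omega) (by omega), Nat.Ico_succ_singleton, Finset.sum_singleton]
    · rcases Nat.eq_or_lt_of_le (Nat.succ_le_of_lt hlt) with h1 | h2
      · have hj1 : j = r + 1 := by omega
        rw [hj1, h4_Rp_e_le fr hb k (r + 1) (by omega) (r + 1) le_rfl,
          h4_xr_e_succ fr (by omega), Finset.sum_eq_sum_Ico_succ_bot (by omega : r < r + 1 + 1),
          Nat.Ico_succ_singleton, Finset.sum_singleton]
        abel
      · rw [ih (r + 1) (by omega) j (by omega) hjm, h4_xr_sum fr (by omega) (by omega)]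

theorem h4_Rp_d (fr : OFrame q N m e f d) {b : F} (hb : b + b ^ q + 1 = 0) (k : ℕ) :
    ∀ r, r + k + 1 = m →
    mt (Rp q e f d m b k) *ᵥ d = d - ∑ i ∈ Finset.Ico r m, e i := by
  induction k with
  | zero =>
    intro r h
    have hr : r = m - 1 := by omega
    rw [hr, h4_Ico_pred (by omega), Finset.sum_singleton]
    exact h4_Qm_d fr (by omega) hb
  | succ k ih =>
    intro r h
    rw [h4_Rp_succ b h, mt_mul_mulVec, ih (r + 1) (by omega), mulVec_sub, h4_xr_d fr (by omega),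
      h4_xr_sum fr (by omega) le_rfl]

theorem h4_Rp_f_last (fr : OFrame q N m e f d) {b : F} (hb : b + b ^ q + 1 = 0) (k : ℕ) :
    ∀ r, r + k + 1 = m →
    mt (Rp q e f d m b k) *ᵥ f (m - 1) = f (m - 1) + d + b • ∑ i ∈ Finset.Ico r m, e i := by
  induction k with
  | zero =>
    intro r h
    have hr : r = m - 1 := by omega
    rw [hr, h4_Ico_pred (by omega), Finset.sum_singleton]
    exact h4_Qm_f_last fr (by omega) hb
  | succ k ih =>
    intro r h
    rw [h4_Rp_succ b h, mt_mul_mulVec, ih (r + 1) (by omega), mulVec_add, mulVec_add, mulVec_smul,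
      h4_xr_d fr (by omega), h4_xr_sum fr (by omega) le_rfl,
      h4_xr_f fr (by omega) (by omega) (by omega)]

theorem h4_Rp_f_lt (fr : OFrame q N m e f d) {b : F} (hb : b + b ^ q + 1 = 0) (k : ℕ) :
    ∀ r, r + k + 1 = m → ∀ j, j < r → j + 1 < m → mt (Rp q e f d m b k) *ᵥ f j = f j := by
  induction k with
  | zero =>
    intro r h j hj hjm
    exact h4_Qm_f fr (by omega) hb hjm
  | succ k ih =>
    intro r h j hj hjm
    rw [h4_Rp_succ b h, mt_mul_mulVec, ih (r + 1) (by omega) j (by omega) hjm,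
      h4_xr_f fr (by omega) (by omega) (by omega)]

theorem h4_Rp_f (fr : OFrame q N m e f d) {b : F} (hb : b + b ^ q + 1 = 0) (k : ℕ) :
    ∀ r, r + k + 1 = m → ∀ j, r ≤ j → j + 1 < m →
    mt (Rp q e f d m b k) *ᵥ f j = f j - f (j + 1) := by
  induction k with
  | zero =>
    intro r h j hj hjm
    omega
  | succ k ih =>
    intro r h j hj hjm
    rw [h4_Rp_succ b h, mt_mul_mulVec]
    rcases Nat.eq_or_lt_of_le hj with rfl | hlt
    · rw [h4_Rp_f_lt fr hb k (r + 1) (by omega) r (by omega) hjm, h4_xr_f_self fr (by omega)]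
    · rw [ih (r + 1) (by omega) j (by omega) hjm, mulVec_sub,
        h4_xr_f fr (by omega) (by omega) (by omega), h4_xr_f fr (by omega) (by omega) (by omega)]

/-! ### The action of `u1` (statements of the stubs `u1_e`, `u1_d`, `u1_f_last`, `u1_f`) -/

theorem h4_u1_e (fr : OFrame q N m e f d) (hm : 2 ≤ m) {b : F} (hb : b + b ^ q + 1 = 0) (j : ℕ)
    (hj : j < m) : mt (u1 q e f d m b) *ᵥ e j = ∑ i ∈ Finset.range (j + 1), e i := by
  rw [Finset.range_eq_Ico]
  exact h4_Rp_e fr hb (m - 1) 0 (by omega) j (Nat.zero_le j) hj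

theorem h4_u1_d (fr : OFrame q N m e f d) (hm : 2 ≤ m) {b : F} (hb : b + b ^ q + 1 = 0) :
    mt (u1 q e f d m b) *ᵥ d = d - ∑ i ∈ Finset.range m, e i := by
  rw [Finset.range_eq_Ico]
  exact h4_Rp_d fr hb (m - 1) 0 (by omega)

theorem h4_u1_f_last (fr : OFrame q N m e f d) (hm : 2 ≤ m) {b : F} (hb : b + b ^ q + 1 = 0) :
    mt (u1 q e f d m b) *ᵥ f (m - 1) = f (m - 1) + d + b • ∑ i ∈ Finset.range m, e i := by
  rw [Finset.range_eq_Ico]
  exact h4_Rp_f_last fr hb (m - 1) 0 (by omega)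

theorem h4_u1_f (fr : OFrame q N m e f d) (hm : 2 ≤ m) {b : F} (hb : b + b ^ q + 1 = 0) (j : ℕ)
    (hj : j + 1 < m) : mt (u1 q e f d m b) *ᵥ f j = f j - f (j + 1) :=
  h4_Rp_f fr hb (m - 1) 0 (by omega) j (Nat.zero_le j) hj

end Cfsg.Agent.SUTri
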