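import Mathlib
import Cfsg.Agent.SUTri.Base
import Cfsg.Agent.SUNG.H7_Std

/-!
# S2282 swarm (helper7): CRIT in the vocabulary of `SUTri/Base`

* `h7_mt_Sg`        : the matrix of a Siegel element `Sg q p w c` is `h9_E (h7_sS q) p w c`
* `h7_Full_of_Big`  : `Big H p → Full H p`  (`p ≠ 0`, `3 ≤ N`)
* `h7_top_of_Big`   : `Big H p` and some `g ∈ H` with `h(g p, p) ≠ 0` give `H = ⊤`
* `h7_Big_map`, `h7_Big_smul`, `h7_Big_of_Orb`, and the same for `Full`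
-/

set_option autoImplicit false
set_option linter.unusedSectionVars false

namespace Cfsg.Agent.SUTri

open Matrix Cfsg Cfsg.Agent.Helper7.Herm Cfsg.Agent.Helper8.GUOrder Cfsg.Agent.Helper8.SURoot

variable {F : Type*} [Field F] [Fintype F] {q N : ℕ}

theorem h7_sgMat_eq (p w : Fin N → F) (c : F) :
    sgMat q p w c = Cfsg.Agent.SUNG.h9_E (Cfsg.Agent.SUNG.h7_sS q) p w c := by
  apply Cfsg.Agent.SUNG.h7_E_of_mulVec
  intro x
  rw [sgMat_mulVec]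
  rfl

variable [hF : Fact (Fintype.card F = q ^ 2)]

/-- the matrix of a Siegel element -/
theorem h7_mt_Sg {p w : Fin N → F} {c : F} (h : SgOK q p w c) :
    mt (Sg q p w c) = Cfsg.Agent.SUNG.h9_E (Cfsg.Agent.SUNG.h7_sS q) p w c := by
  rw [← h7_sgMat_eq]
  unfold Sg
  rw [dif_pos h]

/-- **Full from Big.** -/
theorem h7_Full_of_Big (hn : 3 ≤ N) {H : Subgroup (SU N F q)} {p : Fin N → F} (hp0 : p ≠ 0)
    (hB : Big H p) : Full H p := by
  intro w c hOK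
  have hH : H.map (Cfsg.SU N F q).subtype ≤ Cfsg.Agent.SUNG.h9_G (Cfsg.Agent.SUNG.h7_sS q) := by
    rintro _ ⟨g, -, rfl⟩
    exact g.2
  have hbig : Cfsg.Agent.SUNG.h7_Big (Cfsg.Agent.SUNG.h7_sS q) (H.map (Cfsg.SU N F q).subtype) p := by
    intro v hv
    obtain ⟨c', hc', hcH'⟩ := hB.2 v hv
    exact ⟨c', (Sg q p v c' : SpecialLinearGroup (Fin N) F), ⟨_, hcH', rfl⟩, h7_mt_Sg hc'⟩
  have hQ := Cfsg.Agent.SUNG.h7_full_of_big hF.out (Cfsg.Agent.SUNG.h7_two_le_q hF.out)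
    (Cfsg.Agent.SUNG.h7_sS_isHerm hF.out) hn _ hH p hp0 hB.1 hbig
  obtain ⟨g, hg, hge⟩ := hQ (Sg q p w c : SpecialLinearGroup (Fin N) F) (Sg q p w c).2
    ⟨w, c, hOK.2.1, hOK.2.2, h7_mt_Sg hOK⟩
  have : g = Sg q p w c := Subtype.ext hge
  rwa [← this]

/-- **CRIT.** `Big` at one isotropic point and an element of `H` moving it off its perpendicular:
`H` is everything. -/
theorem h7_top_of_Big (hn : 3 ≤ N) (h32 : ¬ (N = 3 ∧ q = 2)) {H : Subgroup (SU N F q)}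
    {p : Fin N → F} (hp0 : p ≠ 0) (hB : Big H p)
    (hopp : ∃ g ∈ H, hermForm N F q (mt g *ᵥ p) p ≠ 0) : H = ⊤ := by
  apply Cfsg.Agent.SUNG.h7_crit_std hF.out hn h32 H p hp0 hB.1
  · intro v hv
    obtain ⟨c, hc, hcH⟩ := hB.2 v hv
    exact ⟨c, _, hcH, h7_mt_Sg hc⟩
  · exact hopp

/-- variant: two elements of `H` moving `p` to non-perpendicular vectors -/
theorem h7_top_of_Big' (hn : 3 ≤ N) (h32 : ¬ (N = 3 ∧ q = 2)) {H : Subgroup (SU N F q)}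
    {p : Fin N → F} (hp0 : p ≠ 0) (hB : Big H p) {g1 g2 : SU N F q} (h1 : g1 ∈ H) (h2 : g2 ∈ H)
    (hopp : hermForm N F q (mt g1 *ᵥ p) (mt g2 *ᵥ p) ≠ 0) : H = ⊤ := by
  apply h7_top_of_Big hn h32 hp0 hB
  refine ⟨g2⁻¹ * g1, H.mul_mem (H.inv_mem h2) h1, ?_⟩
  rw [← herm_mt g2, mt_mul_mulVec, mt_inv_mulVec]
  exact hopp

/-! ### transport along the orbit -/

theorem h7_Big_map {H : Subgroup (SU N F q)} {p : Fin N → F} (hB : Big H p) {g : SU N F q}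
    (hg : g ∈ H) : Big H (mt g *ᵥ p) := by
  refine ⟨by rw [herm_mt]; exact hB.1, ?_⟩
  intro v hv
  have h1 : hermForm N F q (mt g⁻¹ *ᵥ v) p = 0 := by
    rw [← herm_mt g, mt_inv_mulVec]; exact hv
  obtain ⟨c, hc, hcH⟩ := hB.2 _ h1
  refine ⟨c, ?_, ?_⟩
  · have := hc.map g
    rwa [mt_inv_mulVec] at this
  · have e := conj_Sg g hc
    rw [mt_inv_mulVec] at e
    rw [← e]
    exact H.mul_mem (H.mul_mem hg hcH) (H.inv_mem hg)

theorem h7_Big_smul {H : Subgroup (SU N F q)} {p : Fin N → F} (hB : Big H p) {a : F}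
    (ha : a ≠ 0) : Big H (a • p) := by
  have haq : a ^ q ≠ 0 := pow_ne_zero _ ha
  have hN : a * a ^ q ≠ 0 := mul_ne_zero ha haq
  have hNq : (a * a ^ q) ^ q = a * a ^ q := by rw [mul_pow, pow_q_pow_q hF.out, mul_comm]
  refine ⟨by rw [hermForm_smul_smul, hB.1, mul_zero], ?_⟩
  intro v hv
  have hvp : hermForm N F q v p = 0 := by
    rw [hermForm_smul_right] at hv
    rcases mul_eq_zero.mp hv with h | h
    · exact absurd h haq
    · exact h
  have h1 : hermForm N F q (a ^ q • v) p = 0 := by rw [hermForm_smul_left, hvp, mul_zero]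
  obtain ⟨c', hc', hcH'⟩ := hB.2 _ h1
  have hOK : SgOK q p v (c' / (a * a ^ q)) := by
    refine ⟨hB.1, hvp, ?_⟩
    have h2 := hc'.2.2
    rw [hermForm_smul_left, hermForm_smul_right, pow_q_pow_q hF.out] at h2
    rw [div_pow, hNq]
    field_simp
    linear_combination h2
  refine ⟨c' / (a * a ^ q), hOK.of_smul_left ha, ?_⟩
  rw [Sg_smul_left hOK ha, div_mul_cancel₀ _ hN]
  exact hcH'

theorem h7_Big_of_Orb {H : Subgroup (SU N F q)} {p w : Fin N → F} (hB : Big H p)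
    (hw : w ∈ Orb H p) : Big H w := by
  obtain ⟨k, hk, a, ha, rfl⟩ := hw
  exact h7_Big_smul (h7_Big_map hB hk) ha

theorem h7_ne_zero_of_Orb {H : Subgroup (SU N F q)} {p w : Fin N → F} (hp0 : p ≠ 0)
    (hw : w ∈ Orb H p) : w ≠ 0 := by
  obtain ⟨k, hk, a, ha, rfl⟩ := hw
  exact smul_ne_zero ha (mulVec_ne_zero' k hp0)

/-- CRIT along an orbit: `Big` at `p`, a vector `w` of the orbit of `p` and `g ∈ H` with
`h(g w, w) ≠ 0`. -/
theorem h7_top_of_Big_Orb (hn : 3 ≤ N) (h32 : ¬ (N = 3 ∧ q = 2)) {H : Subgroup (SU N F q)}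
    {p w : Fin N → F} (hp0 : p ≠ 0) (hB : Big H p) (hw : w ∈ Orb H p)
    (hopp : ∃ g ∈ H, hermForm N F q (mt g *ᵥ w) w ≠ 0) : H = ⊤ :=
  h7_top_of_Big hn h32 (h7_ne_zero_of_Orb hp0 hw) (h7_Big_of_Orb hB hw) hopp

end Cfsg.Agent.SUTri
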