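import Mathlib
import Cfsg.Agent.SUTri.Base
import Cfsg.Agent.SU3G.H1_Trace

/-!
# S2282 swarm, piece FULL (helper7): `Big.full`, `Big.map`, `Big.smul`, `Big.of_orb`

`Big H p` together with an anisotropic vector `w₀ ⟂ p` gives `Full H p`: the commutator of
`Sg p (λ w₀) c` and `Sg p w₀ c'` is the transvection `TU p ((λ − λ^q) h(w₀,w₀))`, and `λ − λ^q` runs over
all elements of trace zero (additive Hilbert 90).
-/

set_option autoImplicit false
set_option linter.unusedSectionVars false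

namespace Cfsg.Agent.SUTri

open Matrix Cfsg Cfsg.Agent.Helper7.Herm Cfsg.Agent.Helper8.GUOrder Cfsg.Agent.Helper8.SURoot

variable {F : Type*} [Field F] [Fintype F] {q N : ℕ} [hF : Fact (Fintype.card F = q ^ 2)]

theorem h7_two_le_q' (hF' : Fintype.card F = q ^ 2) : 2 ≤ q := by
  have h1 := one_le_q hF'
  rcases Nat.lt_or_ge q 2 with h | h
  · have hq1 : q = 1 := by omega
    rw [hq1] at hF'
    have := Fintype.one_lt_card (α := F)
    omega
  · exact h

/-- all transvections with centre `p` lie in `H` -/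
theorem Big.TU_mem {H : Subgroup (SU N F q)} {p : Fin N → F} (hB : Big H p) {w₀ : Fin N → F}
    (hw₀p : hermForm N F q w₀ p = 0) (hw₀ : hermForm N F q w₀ w₀ ≠ 0) {s : F}
    (hs : s ^ q + s = 0) : TU q p s ∈ H := by
  obtain ⟨hp, hall⟩ := hB
  set μ := hermForm N F q w₀ w₀ with hμ
  have hμq : μ ^ q = μ := herm_self_fixed w₀
  -- `s / μ` has trace zero
  have hd : s / μ + (s / μ) ^ q = 0 := by
    rw [div_pow, hμq, ← add_div]
    have : s + s ^ q = 0 := by linear_combination hs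
    rw [this, zero_div]
  obtain ⟨t, ht⟩ := Cfsg.Agent.SU3G.h1_su_hilbert90 q hF.out (h7_two_le_q' hF.out) (s / μ) hd
  -- `a := -t` satisfies `a - a ^ q = s / μ`
  set a : F := -t with ha
  have haq : a - a ^ q = s / μ := by
    rw [ha, neg_pow_q hF.out, ← ht]; ring
  have h1 : hermForm N F q (a • w₀) p = 0 := by rw [hermForm_smul_left, hw₀p, mul_zero]
  obtain ⟨c1, hc1, hc1H⟩ := hall (a • w₀) h1
  obtain ⟨c2, hc2, hc2H⟩ := hall w₀ hw₀p
  have hcomm := Sg_comm hc1 hc2
  have e : hermForm N F q (a • w₀) w₀ - hermForm N F q w₀ (a • w₀) = s := by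
    rw [hermForm_smul_left, hermForm_smul_right, ← hμ]
    have : a * μ - a ^ q * μ = (a - a ^ q) * μ := by ring
    rw [this, haq, div_mul_cancel₀ _ hw₀]
  rw [e] at hcomm
  have e2 : TU q p s = (Sg q p w₀ c2 * Sg q p (a • w₀) c1)⁻¹ * (Sg q p (a • w₀) c1 * Sg q p w₀ c2) := by
    rw [hcomm]; group
  rw [e2]
  exact H.mul_mem (H.inv_mem (H.mul_mem hc2H hc1H)) (H.mul_mem hc1H hc2H)

/-- **Full from Big.** -/
theorem Big.full {H : Subgroup (SU N F q)} {p : Fin N → F} (hB : Big H p) {w₀ : Fin N → F}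
    (hw₀p : hermForm N F q w₀ p = 0) (hw₀ : hermForm N F q w₀ w₀ ≠ 0) : Full H p := by
  intro w c hOK
  obtain ⟨c0, hc0, hc0H⟩ := hB.2 w hOK.2.1
  have hs := hc0.sub_tz hOK
  have h1 := Sg_mul_TU hc0 hs
  rw [add_sub_cancel] at h1
  rw [← h1]
  exact H.mul_mem hc0H (hB.TU_mem hw₀p hw₀ hs)

theorem Big.map {H : Subgroup (SU N F q)} {p : Fin N → F} (hB : Big H p) {g : SU N F q}
    (hg : g ∈ H) : Big H (mt g *ᵥ p) := by
  refine ⟨by rw [herm_mt]; exact hB.1, ?_⟩
  intro v hv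
  have h1 : hermForm N F q (mt g⁻¹ *ᵥ v) p = 0 := by
    rw [← herm_mt g, mt_inv_mulVec]; exact hv
  obtain ⟨c, hc, hcH⟩ := hB.2 _ h1
  refine ⟨c, ?_, ?_⟩
  · have := hc.map g
    rwa [mt_inv_mulVec] at this
  · have e := conj_Sg g hc
    rw [mt_inv_mulVec] at e
    rw [← e]
    exact H.mul_mem (H.mul_mem hg hcH) (H.inv_mem hg)

theorem Big.smul {H : Subgroup (SU N F q)} {p : Fin N → F} (hB : Big H p) {a : F} (ha : a ≠ 0) :
    Big H (a • p) := by
  have haq : a ^ q ≠ 0 := pow_ne_zero _ ha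
  have hN : a * a ^ q ≠ 0 := mul_ne_zero ha haq
  have hNq : (a * a ^ q) ^ q = a * a ^ q := by rw [mul_pow, pow_q_pow_q hF.out, mul_comm]
  refine ⟨by rw [hermForm_smul_smul, hB.1, mul_zero], ?_⟩
  intro v hv
  have hvp : hermForm N F q v p = 0 := by
    rw [hermForm_smul_right] at hv
    rcases mul_eq_zero.mp hv with h | h
    · exact absurd h haq
    · exact h
  have h1 : hermForm N F q (a ^ q • v) p = 0 := by rw [hermForm_smul_left, hvp, mul_zero]
  obtain ⟨c', hc', hcH'⟩ := hB.2 _ h1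
  have hOK : SgOK q p v (c' / (a * a ^ q)) := by
    refine ⟨hB.1, hvp, ?_⟩
    have h2 := hc'.2.2
    rw [hermForm_smul_left, hermForm_smul_right, pow_q_pow_q hF.out] at h2
    rw [div_pow, hNq]
    field_simp
    linear_combination h2
  refine ⟨c' / (a * a ^ q), hOK.of_smul_left ha, ?_⟩
  rw [Sg_smul_left hOK ha, div_mul_cancel₀ _ hN]
  exact hcH'

theorem Big.of_orb {H : Subgroup (SU N F q)} {p w : Fin N → F} (hB : Big H p) (hw : w ∈ Orb H p) :
    Big H w := by
  obtain ⟨k, hk, a, ha, rfl⟩ := hw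
  exact (hB.map hk).smul ha

/-! ### the same for `Full` -/

theorem Full.map {H : Subgroup (SU N F q)} {p : Fin N → F} (hFl : Full H p) {g : SU N F q}
    (hg : g ∈ H) : Full H (mt g *ᵥ p) := by
  intro v c hOK
  have hOK' : SgOK q p (mt g⁻¹ *ᵥ v) c := by
    have := hOK.map g⁻¹
    rwa [mt_inv_mulVec'] at this
  have e := conj_Sg g hOK'
  rw [mt_inv_mulVec] at e
  rw [← e]
  exact H.mul_mem (H.mul_mem hg (hFl _ _ hOK')) (H.inv_mem hg)

theorem Full.smul {H : Subgroup (SU N F q)} {p : Fin N → F} (hFl : Full H p) {a : F} (ha : a ≠ 0) :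
    Full H (a • p) := by
  have haq : a ^ q ≠ 0 := pow_ne_zero _ ha
  intro v c hOK
  obtain ⟨hp, hv, hc⟩ := hOK
  have hp' : hermForm N F q p p = 0 := by
    rw [hermForm_smul_smul] at hp
    rcases mul_eq_zero.mp hp with h | h
    · exact absurd h (mul_ne_zero ha haq)
    · exact h
  have hvp : hermForm N F q v p = 0 := by
    rw [hermForm_smul_right] at hv
    rcases mul_eq_zero.mp hv with h | h
    · exact absurd h haq
    · exact h
  have hOK' : SgOK q p v c := ⟨hp', hvp, hc⟩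
  rw [Sg_smul_left hOK' ha]
  exact hFl _ _ (hOK'.smul_left a)

theorem Full.of_orb {H : Subgroup (SU N F q)} {p w : Fin N → F} (hFl : Full H p)
    (hw : w ∈ Orb H p) : Full H w := by
  obtain ⟨k, hk, a, ha, rfl⟩ := hw
  exact (hFl.map hk).smul ha

end Cfsg.Agent.SUTri
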