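import Mathlib
import Cfsg.Agent.SUTri.H7_Full
import Cfsg.Agent.SUTri.H7_Crit

/-!
# S2282 swarm, piece ORB (helper7): the vectors `e_j` of a hyperbolic frame lie in the `H`-orbit of `e_0`

Generic in the element `g` (in the swarm `g = u3`): if `g ∈ H` maps `e_j ↦ e_j − e_{j+1}` for `j + 1 < m`
and the radical of `e_0` is big in `H`, then `e_j ∈ Orb H (e 0)` for all `j < m`, hence `Big H (e j)`.
-/

set_option autoImplicit false
set_option linter.unusedSectionVars false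

namespace Cfsg.Agent.SUTri

open Matrix Cfsg Cfsg.Agent.Helper7.Herm Cfsg.Agent.Helper8.GUOrder Cfsg.Agent.Helper8.SURoot

variable {F : Type*} [Field F] [Fintype F] {q N : ℕ} [hF : Fact (Fintype.card F = q ^ 2)]
variable {m : ℕ} {e f : ℕ → Fin N → F} {d : Fin N → F}

/-- one step: from `e_j` to `e_{j+1}` -/
theorem h7_orb_step (fr : OFrame q N m e f d) {H : Subgroup (SU N F q)} {p : Fin N → F}
    {g : SU N F q} (hg : g ∈ H) {j : ℕ} (hj : j + 1 < m)
    (hge : mt g *ᵥ e j = e j - e (j + 1)) (hB : Big H (e j)) (hO : e j ∈ Orb H p) :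
    e (j + 1) ∈ Orb H p := by
  have hjm : j < m := by omega
  have h1 : mt g *ᵥ e j ∈ Orb H p := Orb_map hO hg
  rw [hge] at h1
  -- the Siegel element with vector `-f (j+1)`
  have hfe : hermForm N F q (f (j + 1)) (e j) = 0 := by
    rw [fr.fe (j + 1) j hj hjm, if_neg (by omega)]
  have hv : hermForm N F q (-f (j + 1)) (e j) = 0 := by rw [herm_neg_left, hfe, neg_zero]
  obtain ⟨c, hc, hcH⟩ := hB.2 _ hv
  have h2 := Orb_map h1 hcH
  rw [Sg_mulVec hc] at h2
  have e1 : hermForm N F q (e j - e (j + 1)) (e j) = 0 := by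
    rw [hermForm_sub_left, fr.ee j j hjm hjm, fr.ee (j + 1) j hj hjm, sub_zero]
  have e2 : hermForm N F q (e j - e (j + 1)) (-f (j + 1)) = 1 := by
    rw [herm_neg_right, hermForm_sub_left, fr.ef j (j + 1) hjm hj, fr.ef (j + 1) (j + 1) hj hj,
      if_neg (by omega), if_pos rfl]
    ring
  rw [e1, e2] at h2
  have e3 : e j - e (j + 1) + (0 : F) • -f (j + 1) - (1 : F) • e j + (c * 0) • e j
      = (-1 : F) • e (j + 1) := by
    module
  rw [e3] at h2
  have h3 := Orb_smul h2 (b := (-1 : F)) (neg_ne_zero.mpr one_ne_zero)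
  rwa [smul_smul, neg_mul_neg, one_mul, one_smul] at h3

/-- **ORB.** all `e_j` lie in the orbit of `e_0` -/
theorem h7_e_mem_Orb (fr : OFrame q N m e f d) {H : Subgroup (SU N F q)} (hB : Big H (e 0))
    {g : SU N F q} (hg : g ∈ H) (hge : ∀ j, j + 1 < m → mt g *ᵥ e j = e j - e (j + 1)) (j : ℕ)
    (hj : j < m) : e j ∈ Orb H (e 0) := by
  induction j with
  | zero => exact self_mem_Orb H (e 0)
  | succ j ih =>
    have hO := ih (by omega)
    exact h7_orb_step fr hg hj (hge j hj) (hB.of_orb hO) hO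

theorem h7_Big_e (fr : OFrame q N m e f d) {H : Subgroup (SU N F q)} (hB : Big H (e 0))
    {g : SU N F q} (hg : g ∈ H) (hge : ∀ j, j + 1 < m → mt g *ᵥ e j = e j - e (j + 1)) (j : ℕ)
    (hj : j < m) : Big H (e j) :=
  hB.of_orb (h7_e_mem_Orb fr hB hg hge j hj)

/-- a frame vector `e_j` is not zero -/
theorem h7_e_ne_zero (fr : OFrame q N m e f d) {j : ℕ} (hj : j < m) : e j ≠ 0 := by
  intro h
  have := fr.ef j j hj hj
  rw [h, hermForm_zero_left, if_pos rfl] at this
  exact zero_ne_one this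

/-- **MAIN (generic form).** `Big` at `e_0`, an element `g ∈ H` with `g e_j = e_j − e_{j+1}` (`j + 1 < m`)
and `h(g e_{m-1}, e_{m-1}) ≠ 0`: then `H` is everything. -/
theorem h7_main (fr : OFrame q N m e f d) (hN : 3 ≤ N) (h32 : ¬ (N = 3 ∧ q = 2)) (hm : 1 ≤ m)
    {H : Subgroup (SU N F q)} (hB : Big H (e 0)) {g : SU N F q} (hg : g ∈ H)
    (hge : ∀ j, j + 1 < m → mt g *ᵥ e j = e j - e (j + 1))
    (hlast : hermForm N F q (mt g *ᵥ e (m - 1)) (e (m - 1)) ≠ 0) : H = ⊤ :=
  h7_top_of_Big hN h32 (h7_e_ne_zero fr (by omega)) (h7_Big_e fr hB hg hge (m - 1) (by omega))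
    ⟨g, hg, hlast⟩

end Cfsg.Agent.SUTri
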