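import Mathlib

/-!
# S2282 swarm, piece TRI: two triangular lemmas (pure linear algebra)

`c 0, c 1, …` is a chain in an `F`-module `V`, `T` lowers the chain index by one with leading
coefficients `ν j` (`T (c (j+1)) = ν j • c j` modulo the span of the `c i`, `i < j`), `M` is an
additive subgroup stable under `T`, `z` is the `c J`-coordinate on the span of `c 0, …, c J`.

* `tri_mult` (multiplier lemma): from `w ∈ M` in the span of `c 0..c J` one gets `w' ∈ M` in the same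
  span with `z w' = (∏ ν) * z (k (c 1) - c 1) * z w`.
* `tri_fill` (filling up): if `z` takes every value on `M ∩ span (c 0..c J)`, then the whole span lies
  in `M`.
-/

set_option autoImplicit false

namespace Cfsg.Agent.SUTri

section tri
variable {F : Type*} [Field F] {V : Type*} [AddCommGroup V] [Module F V]

/-- The span of the chain vectors `c i`, `i < j`. -/
abbrev h0_S (F : Type*) [Field F] {V : Type*} [AddCommGroup V] [Module F V] (c : ℕ → V) (j : ℕ) :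
    Submodule F V :=
  Submodule.span F {v | ∃ i, i < j ∧ v = c i}

theorem h0_c_mem (c : ℕ → V) {i j : ℕ} (h : i < j) : c i ∈ h0_S F c j :=
  Submodule.subset_span ⟨i, h, rfl⟩

theorem h0_S_mono (c : ℕ → V) {j j' : ℕ} (h : j ≤ j') : h0_S F c j ≤ h0_S F c j' :=
  Submodule.span_mono (fun _ ⟨i, hi, hv⟩ => ⟨i, lt_of_lt_of_le hi h, hv⟩)

theorem h0_set_le (c : ℕ → V) (J : ℕ) :
    {v : V | ∃ i, i ≤ J ∧ v = c i} = {v : V | ∃ i, i < J + 1 ∧ v = c i} := by
  ext v; constructor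
  · rintro ⟨i, hi, hv⟩; exact ⟨i, Nat.lt_succ_of_le hi, hv⟩
  · rintro ⟨i, hi, hv⟩; exact ⟨i, Nat.le_of_lt_succ hi, hv⟩

theorem h0_set_succ (c : ℕ → V) (j : ℕ) :
    {v : V | ∃ i, i < j + 1 ∧ v = c i} = insert (c j) {v : V | ∃ i, i < j ∧ v = c i} := by
  ext v; constructor
  · rintro ⟨i, hi, hv⟩
    rcases Nat.lt_succ_iff_lt_or_eq.mp hi with h | h
    · exact Or.inr ⟨i, h, hv⟩
    · subst h; exact Or.inl hv
  · rintro (h | ⟨i, hi, hv⟩)
    · exact ⟨j, Nat.lt_succ_self j, h⟩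
    · exact ⟨i, Nat.lt_succ_of_lt hi, hv⟩

theorem h0_mem_S_succ (c : ℕ → V) (j : ℕ) (x : V) :
    x ∈ h0_S F c (j + 1) ↔ ∃ a : F, ∃ r ∈ h0_S F c j, x = a • c j + r := by
  unfold h0_S
  rw [h0_set_succ, Submodule.mem_span_insert]

theorem h0_S_zero (c : ℕ → V) (x : V) (hx : x ∈ h0_S F c 0) : x = 0 := by
  have : {v : V | ∃ i, i < 0 ∧ v = c i} = ∅ := by
    ext v; simp
  unfold h0_S at hx
  rw [this, Submodule.span_empty] at hx
  exact (Submodule.mem_bot F).mp hx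

theorem h0_mem_S_one (c : ℕ → V) (x : V) (hx : x ∈ h0_S F c 1) : ∃ a : F, x = a • c 0 := by
  obtain ⟨a, r, hr, rfl⟩ := (h0_mem_S_succ c 0 x).mp hx
  refine ⟨a, ?_⟩
  rw [h0_S_zero c r hr, add_zero]

/-- `T (c i)` lies in the span of the earlier chain vectors. -/
theorem h0_T_c (c : ℕ → V) (T : V →ₗ[F] V) (ν : ℕ → F) (J : ℕ)
    (hT0 : T (c 0) = 0)
    (hT : ∀ j, j < J → T (c (j + 1)) - ν j • c j ∈ Submodule.span F {v | ∃ i, i < j ∧ v = c i})
    {i : ℕ} (hi : i ≤ J) : T (c i) ∈ h0_S F c i := by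
  cases i with
  | zero => rw [hT0]; exact Submodule.zero_mem _
  | succ i' =>
    have h1 : T (c (i' + 1)) - ν i' • c i' ∈ h0_S F c (i' + 1) :=
      h0_S_mono c (Nat.le_succ i') (hT i' hi)
    have h2 : ν i' • c i' ∈ h0_S F c (i' + 1) :=
      Submodule.smul_mem _ _ (h0_c_mem c (Nat.lt_succ_self i'))
    have := Submodule.add_mem _ h1 h2
    simpa using this

/-- `T` maps the span of `c 0..c j` into the span of `c 0..c (j-1)` (for `j ≤ J`). -/
theorem h0_T_S (c : ℕ → V) (T : V →ₗ[F] V) (ν : ℕ → F) (J : ℕ)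
    (hT0 : T (c 0) = 0)
    (hT : ∀ j, j < J → T (c (j + 1)) - ν j • c j ∈ Submodule.span F {v | ∃ i, i < j ∧ v = c i})
    {j : ℕ} (hj : j ≤ J) (r : V) (hr : r ∈ h0_S F c (j + 1)) : T r ∈ h0_S F c j := by
  obtain ⟨a, r', hr', rfl⟩ := (h0_mem_S_succ c j r).mp hr
  clear hr
  induction j generalizing a r' with
  | zero =>
    rw [h0_S_zero c r' hr', add_zero, map_smul, hT0, smul_zero]
    exact Submodule.zero_mem _
  | succ j ih =>
    obtain ⟨a', r'', hr'', rfl⟩ := (h0_mem_S_succ c j r').mp hr'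
    have h1 : T (a' • c j + r'') ∈ h0_S F c j := ih (Nat.le_of_succ_le hj) a' r'' hr''
    have h2 : T (c (j + 1)) ∈ h0_S F c (j + 1) := h0_T_c c T ν J hT0 hT hj
    rw [map_add, map_smul]
    exact Submodule.add_mem _ (Submodule.smul_mem _ _ h2) (h0_S_mono c (Nat.le_succ j) h1)

/-- One step: the leading term `a • c (j+1)` becomes `(a * ν j) • c j`. -/
theorem h0_step (c : ℕ → V) (T : V →ₗ[F] V) (ν : ℕ → F) (J : ℕ)
    (hT0 : T (c 0) = 0)
    (hT : ∀ j, j < J → T (c (j + 1)) - ν j • c j ∈ Submodule.span F {v | ∃ i, i < j ∧ v = c i})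
    {j : ℕ} (hj : j < J) {x : V} {a : F} (hx : x - a • c (j + 1) ∈ h0_S F c (j + 1)) :
    T x - (a * ν j) • c j ∈ h0_S F c j := by
  have h1 : T (x - a • c (j + 1)) ∈ h0_S F c j := h0_T_S c T ν J hT0 hT (le_of_lt hj) _ hx
  have h2 : a • (T (c (j + 1)) - ν j • c j) ∈ h0_S F c j := Submodule.smul_mem _ a (hT j hj)
  have e : T x - (a * ν j) • c j = T (x - a • c (j + 1)) + a • (T (c (j + 1)) - ν j • c j) := by
    simp only [map_sub, map_smul, smul_sub, mul_smul]; abel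
  rw [e]; exact Submodule.add_mem _ h1 h2

/-- Iterating `h0_step`. -/
theorem h0_iter (c : ℕ → V) (T : V →ₗ[F] V) (ν : ℕ → F) (J : ℕ)
    (hT0 : T (c 0) = 0)
    (hT : ∀ j, j < J → T (c (j + 1)) - ν j • c j ∈ Submodule.span F {v | ∃ i, i < j ∧ v = c i})
    {x : V} {a : F} (hx : x - a • c J ∈ h0_S F c J) :
    ∀ n j : ℕ, j + n = J → (T ^ n) x - (a * ∏ i ∈ Finset.Ico j J, ν i) • c j ∈ h0_S F c j := by
  intro n
  induction n with
  | zero =>
    intro j hj
    have : j = J := by omega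
    subst this
    simpa using hx
  | succ n ih =>
    intro j hj
    have hjJ : j < J := by omega
    have h1 := ih (j + 1) (by omega)
    have h2 := h0_step c T ν J hT0 hT hjJ h1
    have e : (T ^ (n + 1)) x = T ((T ^ n) x) := by
      rw [pow_succ', Module.End.mul_apply]
    have e2 : ∏ i ∈ Finset.Ico j J, ν i = ν j * ∏ i ∈ Finset.Ico (j + 1) J, ν i :=
      Finset.prod_eq_prod_Ico_succ_bot hjJ ν
    rw [e, e2]
    have e3 : a * (ν j * ∏ i ∈ Finset.Ico (j + 1) J, ν i)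
        = a * (∏ i ∈ Finset.Ico (j + 1) J, ν i) * ν j := by ring
    rw [e3]; exact h2

theorem h0_pow_mem (T : V →ₗ[F] V) (M : AddSubgroup V) (hMT : ∀ x ∈ M, T x ∈ M) (n : ℕ) :
    ∀ x ∈ M, (T ^ n) x ∈ M := by
  induction n with
  | zero => intro x hx; simpa using hx
  | succ n ih =>
    intro x hx
    rw [pow_succ', Module.End.mul_apply]
    exact hMT _ (ih x hx)

theorem h0_z_S (c : ℕ → V) (J : ℕ) (z : V →ₗ[F] F) (hz : ∀ i, i < J → z (c i) = 0)
    (r : V) (hr : r ∈ h0_S F c J) : z r = 0 := by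
  have : h0_S F c J ≤ LinearMap.ker z := by
    apply Submodule.span_le.mpr
    rintro v ⟨i, hi, rfl⟩
    exact LinearMap.mem_ker.mpr (hz i hi)
  exact LinearMap.mem_ker.mp (this hr)

/-- An element of the span of `c 0..c J` has leading term `z w • c J`. -/
theorem h0_lead (c : ℕ → V) (J : ℕ) (z : V →ₗ[F] F) (hzJ : z (c J) = 1)
    (hz : ∀ i, i < J → z (c i) = 0) (w : V)
    (hw : w ∈ Submodule.span F {v | ∃ i, i ≤ J ∧ v = c i}) :
    w - z w • c J ∈ h0_S F c J := by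
  rw [h0_set_le] at hw
  obtain ⟨a, r, hr, rfl⟩ := (h0_mem_S_succ c J w).mp hw
  have hzr : z r = 0 := h0_z_S c J z hz r hr
  have : z (a • c J + r) = a := by
    rw [map_add, map_smul, hzJ, hzr]; simp
  rw [this]
  simpa using hr

/-- **Lemma S (multiplier).** -/
theorem tri_mult (c : ℕ → V) (T k : V →ₗ[F] V) (ν : ℕ → F) (J : ℕ) (hJ : 1 ≤ J)
    (hT0 : T (c 0) = 0)
    (hT : ∀ j, j < J → T (c (j + 1)) - ν j • c j ∈ Submodule.span F {v | ∃ i, i < j ∧ v = c i})
    (M : AddSubgroup V) (hM0 : ∀ t : F, t • c 0 ∈ M) (hMT : ∀ x ∈ M, T x ∈ M) (hMk : ∀ x ∈ M, k x ∈ M)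
    (z : V →ₗ[F] F) (hzJ : z (c J) = 1) (hz : ∀ i, i < J → z (c i) = 0)
    (hk : k (c 1) - c 1 ∈ Submodule.span F {v | ∃ i, i ≤ J ∧ v = c i})
    (w : V) (hwM : w ∈ M) (hw : w ∈ Submodule.span F {v | ∃ i, i ≤ J ∧ v = c i}) :
    ∃ w' : V, w' ∈ M ∧ w' ∈ Submodule.span F {v | ∃ i, i ≤ J ∧ v = c i} ∧
      z w' = (∏ i ∈ Finset.Ico 1 J, ν i) * z (k (c 1) - c 1) * z w := by
  have hlead := h0_lead c J z hzJ hz w hw
  have hit := h0_iter c T ν J hT0 hT hlead (J - 1) 1 (by omega)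
  set α : F := z w * ∏ i ∈ Finset.Ico 1 J, ν i with hα
  have hxM : (T ^ (J - 1)) w ∈ M := h0_pow_mem T M hMT (J - 1) w hwM
  obtain ⟨β, hβ⟩ := h0_mem_S_one c _ hit
  have hc1 : α • c 1 ∈ M := by
    have : α • c 1 = (T ^ (J - 1)) w - β • c 0 := by
      rw [← hβ]; abel
    rw [this]; exact M.sub_mem hxM (hM0 β)
  refine ⟨k (α • c 1) - α • c 1, M.sub_mem (hMk _ hc1) hc1, ?_, ?_⟩
  · have : k (α • c 1) - α • c 1 = α • (k (c 1) - c 1) := by
      rw [map_smul, smul_sub]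
    rw [this]; exact Submodule.smul_mem _ _ hk
  · have : k (α • c 1) - α • c 1 = α • (k (c 1) - c 1) := by
      rw [map_smul, smul_sub]
    rw [this, map_smul, smul_eq_mul, hα]; ring

/-- **Lemma T (filling up).** -/
theorem tri_fill (c : ℕ → V) (T : V →ₗ[F] V) (ν : ℕ → F) (J : ℕ) (hν : ∀ j, j < J → ν j ≠ 0)
    (hT0 : T (c 0) = 0)
    (hT : ∀ j, j < J → T (c (j + 1)) - ν j • c j ∈ Submodule.span F {v | ∃ i, i < j ∧ v = c i})
    (M : AddSubgroup V) (hM0 : ∀ t : F, t • c 0 ∈ M) (hMT : ∀ x ∈ M, T x ∈ M)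
    (z : V →ₗ[F] F) (hzJ : z (c J) = 1) (hz : ∀ i, i < J → z (c i) = 0)
    (hall : ∀ t : F, ∃ w : V, w ∈ M ∧ w ∈ Submodule.span F {v | ∃ i, i ≤ J ∧ v = c i} ∧ z w = t) :
    ∀ x ∈ Submodule.span F {v | ∃ i, i ≤ J ∧ v = c i}, x ∈ M := by
  -- every leading term occurs in `M`
  have hQ : ∀ n j : ℕ, j + n = J → ∀ t : F, ∃ w ∈ M, w - t • c j ∈ h0_S F c j := by
    intro n
    induction n with
    | zero =>
      intro j hj t
      have : j = J := by omega
      subst this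
      obtain ⟨w, hwM, hw, hzw⟩ := hall t
      refine ⟨w, hwM, ?_⟩
      have := h0_lead c j z hzJ hz w hw
      rwa [hzw] at this
    | succ n ih =>
      intro j hj t
      have hjJ : j < J := by omega
      obtain ⟨w, hwM, hw⟩ := ih (j + 1) (by omega) (t / ν j)
      refine ⟨T w, hMT w hwM, ?_⟩
      have := h0_step c T ν J hT0 hT hjJ hw
      rwa [div_mul_cancel₀ t (hν j hjJ)] at this
  -- the spans fill up
  have hR : ∀ j : ℕ, j ≤ J + 1 → ∀ x ∈ h0_S F c j, x ∈ M := by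
    intro j
    induction j with
    | zero =>
      intro _ x hx
      rw [h0_S_zero c x hx]; exact M.zero_mem
    | succ j ih =>
      intro hj x hx
      have hjJ : j ≤ J := by omega
      obtain ⟨a, r, hr, rfl⟩ := (h0_mem_S_succ c j x).mp hx
      obtain ⟨w, hwM, hw⟩ := hQ (J - j) j (by omega) a
      have h1 : w - a • c j ∈ M := ih (by omega) _ hw
      have h2 : a • c j ∈ M := by
        have : a • c j = w - (w - a • c j) := by abel
        rw [this]; exact M.sub_mem hwM h1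
      exact M.add_mem h2 (ih (by omega) r hr)
  intro x hx
  rw [h0_set_le] at hx
  exact hR (J + 1) le_rfl x hx

end tri

end Cfsg.Agent.SUTri
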