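import Mathlib
import Cfsg.Agent.SUTri.Elts
import Cfsg.Agent.SUTri.H4_U3

/-!
# S2282 swarm, a slice of BIG (helper7): Stage 2 and the conclusion `Big H (e 0)`

Input (Stage 1): all multiples of `e_i` (`i < m`), `d` and `f_{m-1}` lie in `M = MG H (e 0)`.
Stage 2: for `j = m−2, …, 1`, from `F • f_{j+1} ⊆ M` take `Sg (e 0) (f (j+1)) c ∈ H`; its conjugate by
`g⁻¹` (`g = u3`) is `Sg p1 (f (j+1) − f j) c`, which fixes `e_0` and maps `t f_{j+1}` to
`t f_{j+1} + t (f_{j+1} − f_j) + c t p1`; hence `t f_j ∈ M`.  Finally every `w ⟂ e_0` is in `M` by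
`OFrame.expand`.  Generic in `g` (only `g⁻¹ e_0 = p1` and `g⁻¹ f_{j+1} = f_{j+1} − f_j` are used).
-/

set_option autoImplicit false
set_option linter.unusedSectionVars false

namespace Cfsg.Agent.SUTri

open Matrix Cfsg Cfsg.Agent.Helper7.Herm Cfsg.Agent.Helper8.GUOrder Cfsg.Agent.Helper8.SURoot

variable {F : Type*} [Field F] [Fintype F] {q N : ℕ} [hF : Fact (Fintype.card F = q ^ 2)]
variable {m : ℕ} {e f : ℕ → Fin N → F} {d : Fin N → F}

theorem h7_herm_sum_right {κ : Type*} (S : Finset κ) (x : Fin N → F) (v : κ → Fin N → F) :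
    hermForm N F q x (∑ i ∈ S, v i) = ∑ i ∈ S, hermForm N F q x (v i) := by
  classical
  induction S using Finset.induction_on with
  | empty => rw [Finset.sum_empty, Finset.sum_empty, hermForm_zero_right]
  | insert a S ha ih => rw [Finset.sum_insert ha, Finset.sum_insert ha, hermForm_add_right hF.out, ih]

/-- `h(x, p1)` for `x` orthogonal to `d` and `f_{m-1}` -/
theorem h7_herm_p1 (x : Fin N → F) (s b : F) (hxd : hermForm N F q x d = 0)
    (hxf : hermForm N F q x (f (m - 1)) = 0) :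
    hermForm N F q x (p1 q e f d m s b) = ∑ i ∈ Finset.range m, hermForm N F q x (e i) := by
  unfold p1
  rw [hermForm_sub_right hF.out, hermForm_sub_right hF.out, hermForm_smul_right, hermForm_smul_right,
    hxd, hxf, mul_zero, mul_zero, sub_zero, sub_zero, h7_herm_sum_right]

/-- all multiples of `p1` lie in an additive group containing the multiples of `e_i`, `d`, `f_{m-1}` -/
theorem h7_smul_p1_mem (M : AddSubgroup (Fin N → F)) (s b : F)
    (hE : ∀ i, i < m → ∀ t : F, t • e i ∈ M) (hD : ∀ t : F, t • d ∈ M)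
    (hFl : ∀ t : F, t • f (m - 1) ∈ M) (t : F) : t • p1 q e f d m s b ∈ M := by
  unfold p1
  rw [smul_sub, smul_sub, Finset.smul_sum, smul_smul, smul_smul]
  apply M.sub_mem (M.sub_mem _ (hD _)) (hFl _)
  apply M.sum_mem
  intro i hi
  exact hE i (Finset.mem_range.mp hi) t

/-- **Stage 2, one step.** -/
theorem h7_stage2_step (fr : OFrame q N m e f d) {s b : F}
    {H : Subgroup (SU N F q)} {g : SU N F q} (hg : g ∈ H)
    (hg0 : mt g⁻¹ *ᵥ e 0 = p1 q e f d m s b)
    (hp : hermForm N F q (e 0) (e 0) = 0)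
    (hE : ∀ i, i < m → ∀ t : F, t • e i ∈ MG H (e 0) hp)
    (hD : ∀ t : F, t • d ∈ MG H (e 0) hp)
    (hFl : ∀ t : F, t • f (m - 1) ∈ MG H (e 0) hp)
    {j : ℕ} (hj1 : 1 ≤ j) (hj : j + 1 < m)
    (hgf : mt g⁻¹ *ᵥ f (j + 1) = f (j + 1) - f j)
    (hnext : ∀ t : F, t • f (j + 1) ∈ MG H (e 0) hp) (t : F) : t • f j ∈ MG H (e 0) hp := by
  have hm0 : 0 < m := by omega
  have hjm : j < m := by omega
  have hm1 : m - 1 < m := by omega
  have h1 := hnext 1
  rw [one_smul] at h1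
  obtain ⟨c, hc, hcH⟩ := h1
  -- the conjugate by `g⁻¹`
  have hOK := hc.map g⁻¹
  have hconj := conj_Sg g⁻¹ hc
  rw [inv_inv, hg0, hgf] at hconj
  rw [hg0, hgf] at hOK
  have hK : Sg q (p1 q e f d m s b) (f (j + 1) - f j) c ∈ H := by
    rw [← hconj]
    exact H.mul_mem (H.mul_mem (H.inv_mem hg) hcH) hg
  -- it fixes `e 0`
  have a1 : hermForm N F q (e 0) (p1 q e f d m s b) = 0 := by
    rw [h7_herm_p1 (e 0) s b (fr.ed 0 hm0) (by rw [fr.ef 0 (m - 1) hm0 hm1, if_neg (by omega)])]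
    apply Finset.sum_eq_zero
    intro i hi
    exact fr.ee 0 i hm0 (Finset.mem_range.mp hi)
  have a2 : hermForm N F q (e 0) (f (j + 1) - f j) = 0 := by
    rw [hermForm_sub_right hF.out, fr.ef 0 (j + 1) hm0 hj, fr.ef 0 j hm0 hjm, if_neg (by omega),
      if_neg (by omega), sub_zero]
  have hfix : mt (Sg q (p1 q e f d m s b) (f (j + 1) - f j) c) *ᵥ e 0 = e 0 := by
    rw [Sg_mulVec hOK, a1, a2]
    module
  have h2 := MG_map hK hfix (hnext t)
  -- the image of `t • f (j+1)`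
  have b1 : hermForm N F q (t • f (j + 1)) (p1 q e f d m s b) = t := by
    rw [hermForm_smul_left,
      h7_herm_p1 (f (j + 1)) s b (fr.fd (j + 1) hj) (fr.ff (j + 1) (m - 1) hj hm1),
      Finset.sum_eq_single (j + 1)]
    · rw [fr.fe (j + 1) (j + 1) hj hj, if_pos rfl, mul_one]
    · intro i hi hne
      rw [fr.fe (j + 1) i hj (Finset.mem_range.mp hi), if_neg (fun h => hne h.symm)]
    · intro h
      exact absurd (Finset.mem_range.mpr hj) h
  have b2 : hermForm N F q (t • f (j + 1)) (f (j + 1) - f j) = 0 := by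
    rw [hermForm_smul_left, hermForm_sub_right hF.out, fr.ff (j + 1) (j + 1) hj hj,
      fr.ff (j + 1) j hj hjm, sub_zero, mul_zero]
  rw [Sg_mulVec hOK, b1, b2] at h2
  have h3 := h7_smul_p1_mem (q := q) (MG H (e 0) hp) s b hE hD hFl (c * t)
  have h4 := hnext (t + t)
  have e1 : t • f j = (t + t) • f (j + 1) + (c * t) • p1 q e f d m s b
      - (t • f (j + 1) + t • (f (j + 1) - f j) - (0 : F) • p1 q e f d m s b
        + (c * t) • p1 q e f d m s b) := by
    module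
  rw [e1]
  exact (MG H (e 0) hp).sub_mem ((MG H (e 0) hp).add_mem h4 h3) h2

/-- **Stage 2**: all `f_i`, `1 ≤ i < m`. -/
theorem h7_stage2 (fr : OFrame q N m e f d) {s b : F}
    {H : Subgroup (SU N F q)} {g : SU N F q} (hg : g ∈ H)
    (hg0 : mt g⁻¹ *ᵥ e 0 = p1 q e f d m s b)
    (hgf : ∀ j, j + 1 < m → mt g⁻¹ *ᵥ f (j + 1) = f (j + 1) - f j)
    (hp : hermForm N F q (e 0) (e 0) = 0)
    (hE : ∀ i, i < m → ∀ t : F, t • e i ∈ MG H (e 0) hp)
    (hD : ∀ t : F, t • d ∈ MG H (e 0) hp)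
    (hFl : ∀ t : F, t • f (m - 1) ∈ MG H (e 0) hp) :
    ∀ i, 1 ≤ i → i < m → ∀ t : F, t • f i ∈ MG H (e 0) hp := by
  have key : ∀ k i, i + k = m - 1 → 1 ≤ i → ∀ t : F, t • f i ∈ MG H (e 0) hp := by
    intro k
    induction k with
    | zero =>
      intro i hi _ t
      have : i = m - 1 := by omega
      rw [this]
      exact hFl t
    | succ k ih =>
      intro i hi hi1 t
      have hnext := ih (i + 1) (by omega) (by omega)
      exact h7_stage2_step fr hg hg0 hp hE hD hFl hi1 (by omega) (hgf i (by omega)) hnext t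
  intro i hi1 him t
  exact key (m - 1 - i) i (by omega) hi1 t

/-- **BIG from Stage 1** (generic in `g`). -/
theorem h7_big_of_stage1_gen (fr : OFrame q N m e f d) {s b : F}
    {H : Subgroup (SU N F q)} {g : SU N F q} (hg : g ∈ H)
    (hg0 : mt g⁻¹ *ᵥ e 0 = p1 q e f d m s b)
    (hgf : ∀ j, j + 1 < m → mt g⁻¹ *ᵥ f (j + 1) = f (j + 1) - f j)
    (hp : hermForm N F q (e 0) (e 0) = 0)
    (hE : ∀ i, i < m → ∀ t : F, t • e i ∈ MG H (e 0) hp)
    (hD : ∀ t : F, t • d ∈ MG H (e 0) hp)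
    (hFl : ∀ t : F, t • f (m - 1) ∈ MG H (e 0) hp) : Big H (e 0) := by
  have hFall := h7_stage2 fr hg hg0 hgf hp hE hD hFl
  refine ⟨hp, ?_⟩
  intro w hw
  have key : (∑ i ∈ Finset.range m,
      (hermForm N F q w (f i) • e i + hermForm N F q w (e i) • f i) + hermForm N F q w d • d)
      ∈ MG H (e 0) hp := by
    apply (MG H (e 0) hp).add_mem _ (hD _)
    apply (MG H (e 0) hp).sum_mem
    intro i hi
    have him := Finset.mem_range.mp hi
    apply (MG H (e 0) hp).add_mem (hE i him _)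
    by_cases hi0 : i = 0
    · rw [hi0, hw, zero_smul]
      exact (MG H (e 0) hp).zero_mem
    · exact hFall i (by omega) him _
  rw [← fr.expand w] at key
  exact key

/-- **BIG from Stage 1** (architect's interface, `g = u3`). -/
theorem h7_big_of_stage1 (fr : OFrame q N m e f d) (hm : 2 ≤ m) {s b : F}
    (hb : b + b ^ q + 1 = 0) (hs : s ^ q + s = 0) (hs0 : s ≠ 0) {H : Subgroup (SU N F q)}
    (hu3 : u3 q e f d m s b ∈ H) (hp0 : hermForm N F q (e 0) (e 0) = 0)
    (he : ∀ i, i < m → ∀ t : F, t • e i ∈ MG H (e 0) hp0)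
    (hd : ∀ t : F, t • d ∈ MG H (e 0) hp0)
    (hf : ∀ t : F, t • f (m - 1) ∈ MG H (e 0) hp0) : Big H (e 0) :=
  h7_big_of_stage1_gen fr hu3 (u3_inv_e0 fr hm hb hs hs0)
    (fun j hj => u3_inv_f fr hm hb hs hs0 j hj) hp0 he hd hf

end Cfsg.Agent.SUTri
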