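import Mathlib
import Cfsg.Agent.SUTri.Elts
import Cfsg.Agent.SUTri.H4_U1tab

set_option autoImplicit false
set_option linter.unusedSectionVars false
set_option linter.unusedVariables false

/-!
# S2282 swarm (helper8): the commutator formula and `rho` as a Siegel element
-/

namespace Cfsg.Agent.SUTri

open Matrix Cfsg Cfsg.Agent.Helper7.Herm Cfsg.Agent.Helper8.GUOrder Cfsg.Agent.Helper8.SURoot

variable {F : Type*} [Field F] [Fintype F] {q N : ℕ} [hF : Fact (Fintype.card F = q ^ 2)]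
variable {m : ℕ} {e f : ℕ → Fin N → F} {d : Fin N → F}

/-- general commutator formula (any `u` fixing `p`). -/
theorem h8_comm_Sh {p v : Fin N → F} (hp : hermForm N F q p p = 0) (hv : hermForm N F q v v = 0)
    (hvp : hermForm N F q v p = 0) (u : SU N F q) (hu : mt u *ᵥ p = p) (a : F) :
    Sh q p v a * u * (Sh q p v a)⁻¹ * u⁻¹
      = Sg q p (a ^ q • (mt u *ᵥ v - v)) (a * a ^ q * hermForm N F q (mt u *ᵥ v) v)
    ∧ SgOK q p (a ^ q • (mt u *ᵥ v - v)) (a * a ^ q * hermForm N F q (mt u *ᵥ v) v) := by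
  have h1 := SgOK.short hp hv hvp a
  have h2 := h1.neg
  have h3 := h2.map u
  rw [hu] at h3
  have h4 := h1.add h3
  have e1 : Sh q p v a * u * (Sh q p v a)⁻¹ * u⁻¹
      = Sg q p (-(a ^ q) • v) 0 * (u * Sg q p (-(-(a ^ q) • v))
          (-0 - hermForm N F q (-(a ^ q) • v) (-(a ^ q) • v)) * u⁻¹) := by
    unfold Sh
    rw [Sg_inv h1]
    group
  have ew : -(a ^ q) • v + mt u *ᵥ (-(-(a ^ q) • v)) = a ^ q • (mt u *ᵥ v - v) := by
    rw [← neg_smul, neg_neg, mulVec_smul]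
    module
  have ec : (0 : F) + (-0 - hermForm N F q (-(a ^ q) • v) (-(a ^ q) • v))
        - hermForm N F q (mt u *ᵥ (-(-(a ^ q) • v))) (-(a ^ q) • v)
      = a * a ^ q * hermForm N F q (mt u *ᵥ v) v := by
    rw [← neg_smul, neg_neg, mulVec_smul, hermForm_smul_left, hermForm_smul_right,
      hermForm_smul_left, hermForm_smul_right, hv, neg_pow_q hF.out, pow_q_pow_q hF.out]
    ring
  rw [e1, conj_Sg u h2, hu, Sg_mul h1 h3]
  rw [ew, ec] at h4 ⊢
  exact ⟨rfl, h4⟩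

theorem h8_u1_fix (fr : OFrame q N m e f d) (hm : 2 ≤ m) {b : F} (hb : b + b ^ q + 1 = 0) :
    mt (u1 q e f d m b) *ᵥ e 0 = e 0 := by
  rw [h4_u1_e fr hm hb 0 (by omega), Finset.sum_range_one]

theorem h8_rho_eq (fr : OFrame q N m e f d) (hm : 2 ≤ m) {b : F} (hb : b + b ^ q + 1 = 0) (a : F) :
    rho q e f d m b a = Sg q (e 0) (a ^ q • (mt (u1 q e f d m b) *ᵥ f 1 - f 1))
        (a * a ^ q * hermForm N F q (mt (u1 q e f d m b) *ᵥ f 1) (f 1))
    ∧ SgOK q (e 0) (a ^ q • (mt (u1 q e f d m b) *ᵥ f 1 - f 1))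
        (a * a ^ q * hermForm N F q (mt (u1 q e f d m b) *ᵥ f 1) (f 1)) := by
  have h1 : hermForm N F q (f 1) (e 0) = 0 := by
    rw [fr.fe 1 0 (by omega) (by omega), if_neg (by omega)]
  exact h8_comm_Sh (fr.ee 0 0 (by omega) (by omega)) (fr.ff 1 1 (by omega) (by omega)) h1
    (u1 q e f d m b) (h8_u1_fix fr hm hb) a

/-- conjugating a Siegel element at `e 0` by `u3⁻¹` gives an element fixing `e 0`
(stated for any `g` with `g e_0 = e_0 − e_1`). -/
theorem h8_conj_fix_gen (fr : OFrame q N m e f d) (hm : 2 ≤ m) {g : SU N F q}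
    (h3 : mt g *ᵥ e 0 = e 0 - e 1) {w : Fin N → F} {c : F} (hok : SgOK q (e 0) w c)
    (hw : hermForm N F q (e 0 - e 1) w = 0) :
    mt (g⁻¹ * Sg q (e 0) w c * g) *ᵥ e 0 = e 0 := by
  have h00 : hermForm N F q (e 0) (e 0) = 0 := fr.ee 0 0 (by omega) (by omega)
  have h10 : hermForm N F q (e 1) (e 0) = 0 := fr.ee 1 0 (by omega) (by omega)
  rw [mt_mul_mulVec, mt_mul_mulVec, h3, Sg_mulVec hok, hw, hermForm_sub_left, h00, h10]
  have : e 0 - e 1 + ((0 : F) - 0) • w - (0 : F) • e 0 + (c * (0 - 0)) • e 0 = e 0 - e 1 := by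
    simp
  rw [this, ← h3, mt_inv_mulVec']

end Cfsg.Agent.SUTri
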