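import Mathlib
import Cfsg.Agent.SUTri.H8_Comm
import Cfsg.Agent.SUTri.H4_U3

set_option autoImplicit false
set_option linter.unusedSectionVars false
set_option linter.unusedVariables false

/-!
# S2282 swarm (helper8): the case `m = 2` (`SU_5`), the element `k = u3⁻¹ rho u3`
-/

namespace Cfsg.Agent.SUTri

open Matrix Cfsg Cfsg.Agent.Helper7.Herm Cfsg.Agent.Helper8.GUOrder Cfsg.Agent.Helper8.SURoot

variable {F : Type*} [Field F] [Fintype F] {q N : ℕ} [hF : Fact (Fintype.card F = q ^ 2)]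
variable {e f : ℕ → Fin N → F} {d : Fin N → F}

theorem h8_rho_two (fr : OFrame q N 2 e f d) {b : F} (hb : b + b ^ q + 1 = 0) (a : F) :
    rho q e f d 2 b a = Sg q (e 0) (a ^ q • (d + b • (e 0 + e 1))) (a * a ^ q * b)
    ∧ SgOK q (e 0) (a ^ q • (d + b • (e 0 + e 1))) (a * a ^ q * b) := by
  obtain ⟨h1, h2⟩ := h8_rho_eq fr (le_refl 2) hb a
  have hu : mt (u1 q e f d 2 b) *ᵥ f 1 = f 1 + d + b • (e 0 + e 1) := by
    have := h4_u1_f_last fr (le_refl 2) hb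
    rw [Finset.sum_range_succ, Finset.sum_range_one] at this
    exact this
  have hw : a ^ q • (mt (u1 q e f d 2 b) *ᵥ f 1 - f 1) = a ^ q • (d + b • (e 0 + e 1)) := by
    rw [hu]
    module
  have hc : a * a ^ q * hermForm N F q (mt (u1 q e f d 2 b) *ᵥ f 1) (f 1) = a * a ^ q * b := by
    rw [hu, hermForm_add_left, hermForm_add_left, hermForm_smul_left, hermForm_add_left,
      fr.ff 1 1 (by omega) (by omega), fr.df 1 (by omega), fr.ef 0 1 (by omega) (by omega),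
      fr.ef 1 1 (by omega) (by omega), if_neg (by omega), if_pos rfl]
    ring
  rw [hw, hc] at h1 h2
  exact ⟨h1, h2⟩


/-- the frame table for `m = 2`, as a bundle of equations. -/
theorem h8_table_two (fr : OFrame q N 2 e f d) :
    (hermForm N F q (e 0) (e 0) = 0 ∧ hermForm N F q (e 0) (e 1) = 0 ∧
     hermForm N F q (e 1) (e 0) = 0 ∧ hermForm N F q (e 1) (e 1) = 0) ∧
    (hermForm N F q (e 0) d = 0 ∧ hermForm N F q (e 1) d = 0 ∧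
     hermForm N F q d (e 0) = 0 ∧ hermForm N F q d (e 1) = 0 ∧ hermForm N F q d d = 1) ∧
    (hermForm N F q (f 0) (e 0) = 1 ∧ hermForm N F q (f 0) (e 1) = 0 ∧
     hermForm N F q (f 1) (e 0) = 0 ∧ hermForm N F q (f 1) (e 1) = 1) ∧
    (hermForm N F q (f 0) d = 0 ∧ hermForm N F q (f 1) d = 0) := by
  refine ⟨⟨fr.ee 0 0 (by omega) (by omega), fr.ee 0 1 (by omega) (by omega),
    fr.ee 1 0 (by omega) (by omega), fr.ee 1 1 (by omega) (by omega)⟩,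
    ⟨fr.ed 0 (by omega), fr.ed 1 (by omega), fr.de 0 (by omega), fr.de 1 (by omega), fr.dd⟩,
    ⟨?_, ?_, ?_, ?_⟩, ⟨fr.fd 0 (by omega), fr.fd 1 (by omega)⟩⟩
  · rw [fr.fe 0 0 (by omega) (by omega), if_pos rfl]
  · rw [fr.fe 0 1 (by omega) (by omega), if_neg (by omega)]
  · rw [fr.fe 1 0 (by omega) (by omega), if_neg (by omega)]
  · rw [fr.fe 1 1 (by omega) (by omega), if_pos rfl]

theorem h8_k_two_aux (fr : OFrame q N 2 e f d) {s b : F} (hb : b + b ^ q + 1 = 0)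
    (hs : s ^ q + s = 0) (hs0 : s ≠ 0) (a : F) :
    mt ((u3 q e f d 2 s b)⁻¹ * rho q e f d 2 b a * u3 q e f d 2 s b) *ᵥ e 1 - e 1
      = ((-(b * s⁻¹ * s⁻¹) * a ^ q) * b + (a * a ^ q * b * (-(b * s⁻¹ * s⁻¹)) - a * (s⁻¹ - 2 * b ^ q * (b * s⁻¹ * s⁻¹)))) • e 0
        + (2 * (-(b * s⁻¹ * s⁻¹) * a ^ q) * b + (a * a ^ q * b * (-(b * s⁻¹ * s⁻¹)) - a * (s⁻¹ - 2 * b ^ q * (b * s⁻¹ * s⁻¹)))) • e 1
        + ((-(b * s⁻¹ * s⁻¹) * a ^ q) * (1 - 2 * b * s⁻¹) - (a * a ^ q * b * (-(b * s⁻¹ * s⁻¹)) - a * (s⁻¹ - 2 * b ^ q * (b * s⁻¹ * s⁻¹))) * s⁻¹) • d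
        + ((-(b * s⁻¹ * s⁻¹) * a ^ q) * (-s⁻¹ - 2 * b * (s⁻¹ * s⁻¹ * b ^ q)) - (a * a ^ q * b * (-(b * s⁻¹ * s⁻¹)) - a * (s⁻¹ - 2 * b ^ q * (b * s⁻¹ * s⁻¹))) * (s⁻¹ * s⁻¹ * b ^ q)) • f 1 := by
  have hm : (2 : ℕ) ≤ 2 := le_refl 2
  obtain ⟨h1, h2⟩ := h8_rho_two fr hb a
  obtain ⟨⟨e00, e01, e10, e11⟩, ⟨ed0, ed1, de0, de1, dd⟩, ⟨fe00, fe01, fe10, fe11⟩, ⟨fd0, fd1⟩⟩ :=
    h8_table_two fr
  have h31 : mt (u3 q e f d 2 s b) *ᵥ e 1
      = e 1 + s⁻¹ • d - (b * s⁻¹ * s⁻¹) • (f 0 + f 1) := by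
    have := u3_e_last fr hm hb hs hs0
    rw [Finset.sum_range_succ, Finset.sum_range_one] at this
    exact this
  have hi0 : mt (u3 q e f d 2 s b)⁻¹ *ᵥ e 0
      = e 0 + e 1 - s⁻¹ • d - (s⁻¹ * s⁻¹ * b ^ q) • f 1 := by
    have := u3_inv_e0 fr hm hb hs hs0
    unfold p1 at this
    rw [Finset.sum_range_succ, Finset.sum_range_one] at this
    exact this
  have hi1 : mt (u3 q e f d 2 s b)⁻¹ *ᵥ e 1
      = e 1 - s⁻¹ • d - (s⁻¹ * s⁻¹ * b ^ q) • f 1 := by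
    have := u3_inv_e fr hm hb hs hs0 1 (by omega)
    rw [Nat.Ico_succ_singleton, Finset.sum_singleton] at this
    exact this
  have hid : mt (u3 q e f d 2 s b)⁻¹ *ᵥ d = d - s⁻¹ • f 1 := u3_inv_d fr hm hb hs hs0
  have hiX : mt (u3 q e f d 2 s b)⁻¹ *ᵥ (e 1 + s⁻¹ • d - (b * s⁻¹ * s⁻¹) • (f 0 + f 1)) = e 1 := by
    rw [← h31, mt_inv_mulVec']
  have hc1 : hermForm N F q (e 1 + s⁻¹ • d - (b * s⁻¹ * s⁻¹) • (f 0 + f 1)) (e 0)
      = -(b * s⁻¹ * s⁻¹) := by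
    simp only [hermForm_add_left, hermForm_sub_left, hermForm_smul_left, e10, de0, fe00, fe10]
    ring
  have hc2 : hermForm N F q (e 1 + s⁻¹ • d - (b * s⁻¹ * s⁻¹) • (f 0 + f 1))
      (a ^ q • (d + b • (e 0 + e 1))) = a * (s⁻¹ - 2 * b ^ q * (b * s⁻¹ * s⁻¹)) := by
    simp only [hermForm_smul_right, hermForm_add_right hF.out, hermForm_add_left,
      hermForm_sub_left, hermForm_smul_left, e10, e11, ed1, de0, de1, dd, fe00, fe01, fe10, fe11,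
      fd0, fd1, pow_q_pow_q hF.out]
    ring
  obtain ⟨X, hX⟩ : ∃ X : Fin N → F, X = e 1 + s⁻¹ • d - (b * s⁻¹ * s⁻¹) • (f 0 + f 1) :=
    ⟨_, rfl⟩
  rw [← hX] at h31 hiX hc1 hc2
  rw [mt_mul_mulVec, mt_mul_mulVec, h31, h1, Sg_mulVec h2, hc1, hc2]
  simp only [mulVec_add, mulVec_sub, mulVec_smul]
  rw [hiX, hi0, hi1, hid]
  module

theorem h8_k_two (fr : OFrame q N 2 e f d) {s b a : F} (hb : b + b ^ q + 1 = 0)
    (hs : s ^ q + s = 0) (hs0 : s ≠ 0) (ha : a = s * s / b ^ q) :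
    mt ((u3 q e f d 2 s b)⁻¹ * rho q e f d 2 b a * u3 q e f d 2 s b) *ᵥ e 0 = e 0 ∧
    (∃ x0 x1 x2 x3 : F,
      mt ((u3 q e f d 2 s b)⁻¹ * rho q e f d 2 b a * u3 q e f d 2 s b) *ᵥ e 1 - e 1
        = x0 • e 0 + x1 • e 1 + x2 • d + x3 • f 1) ∧
    hermForm N F q
      (mt ((u3 q e f d 2 s b)⁻¹ * rho q e f d 2 b a * u3 q e f d 2 s b) *ᵥ e 1 - e 1) (e 1)
      = b + 2 * s⁻¹ := by
  have hm : (2 : ℕ) ≤ 2 := le_refl 2
  obtain ⟨h1, h2⟩ := h8_rho_two fr hb a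
  obtain ⟨⟨e00, e01, e10, e11⟩, ⟨ed0, ed1, de0, de1, dd⟩, ⟨fe00, fe01, fe10, fe11⟩, ⟨fd0, fd1⟩⟩ :=
    h8_table_two fr
  refine ⟨?_, ⟨_, _, _, _, h8_k_two_aux fr hb hs hs0 a⟩, ?_⟩
  · rw [h1]
    apply h8_conj_fix_gen fr hm (u3_e fr hm hb hs hs0 0 (by omega)) h2
    simp only [hermForm_smul_right, hermForm_add_right hF.out, hermForm_sub_left, e00, e01, e10,
      e11, ed0, ed1]
    ring
  · rw [h8_k_two_aux fr hb hs hs0 a]
    simp only [hermForm_add_left, hermForm_smul_left, e01, e11, de1, fe11]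
    have hb0 : b ≠ 0 := by
      intro h
      rw [h, zero_pow (by have := one_le_q hF.out; omega), add_zero, zero_add] at hb
      exact one_ne_zero hb
    have hbq : b ^ q ≠ 0 := pow_ne_zero q hb0
    have hsq : s ^ q = -s := by linear_combination hs
    have haq : a ^ q = s * s / b := by
      rw [ha, div_pow, mul_pow, pow_q_pow_q hF.out, hsq]
      ring
    rw [haq, ha]
    field_simp
    ring

end Cfsg.Agent.SUTri
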