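import Mathlib
import Cfsg.Agent.SUTri.H8_Comm
import Cfsg.Agent.SUTri.H0_Tri
import Cfsg.Agent.SUTri.H4_U3
import Cfsg.Agent.SUTri.H7_Stage2
import Cfsg.Agent.SUTri.H8_Two
import Cfsg.Agent.SU3G.H5_MOD

set_option autoImplicit false
set_option linter.unusedSectionVars false
set_option linter.unusedVariables false

/-!
# S2282 swarm, piece BIG (helper8): the whole radical of the point `⟨e 0⟩` occurs in `H`
-/

namespace Cfsg.Agent.SUTri

open Matrix Cfsg Cfsg.Agent.Helper7.Herm Cfsg.Agent.Helper8.GUOrder Cfsg.Agent.Helper8.SURoot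

variable {F : Type*} [Field F] [Fintype F] {q N : ℕ} [hF : Fact (Fintype.card F = q ^ 2)]
variable {m : ℕ} {e f : ℕ → Fin N → F} {d : Fin N → F}

/-! ### sums in the form -/

theorem h8_herm_sum_left {ι : Type*} (s : Finset ι) (g : ι → Fin N → F) (y : Fin N → F) :
    hermForm N F q (∑ i ∈ s, g i) y = ∑ i ∈ s, hermForm N F q (g i) y := by
  classical
  induction s using Finset.induction_on with
  | empty => simp [hermForm_zero_left]
  | insert a s ha ih => rw [Finset.sum_insert ha, Finset.sum_insert ha, hermForm_add_left, ih]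

theorem h8_herm_sum_right {ι : Type*} (s : Finset ι) (g : ι → Fin N → F) (x : Fin N → F) :
    hermForm N F q x (∑ i ∈ s, g i) = ∑ i ∈ s, hermForm N F q x (g i) := by
  classical
  induction s using Finset.induction_on with
  | empty => simp [hermForm_zero_right]
  | insert a s ha ih =>
    rw [Finset.sum_insert ha, Finset.sum_insert ha, hermForm_add_right hF.out, ih]

/-- `x ↦ h(x, y)` as a linear map. -/
def h8_hl (q : ℕ) (y : Fin N → F) : (Fin N → F) →ₗ[F] F where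
  toFun x := hermForm N F q x y
  map_add' := fun u v => hermForm_add_left u v y
  map_smul' := fun a u => by
    rw [hermForm_smul_left, RingHom.id_apply, smul_eq_mul]

theorem h8_hl_apply (y x : Fin N → F) : h8_hl q y x = hermForm N F q x y := rfl

/-- `x ↦ g x − x` as a linear map. -/
def h8_T (g : SU N F q) : (Fin N → F) →ₗ[F] (Fin N → F) := (mt g).mulVecLin - LinearMap.id

theorem h8_T_apply (g : SU N F q) (x : Fin N → F) : h8_T g x = mt g *ᵥ x - x := by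
  unfold h8_T
  rw [LinearMap.sub_apply, Matrix.mulVecLin_apply, LinearMap.id_apply]

/-! ### pairings with `E = ∑ i < m, e i` -/

theorem h8_E_e (fr : OFrame q N m e f d) {j : ℕ} (hj : j < m) :
    hermForm N F q (∑ i ∈ Finset.range m, e i) (e j) = 0 := by
  rw [h8_herm_sum_left]
  apply Finset.sum_eq_zero
  intro i hi
  exact fr.ee i j (Finset.mem_range.mp hi) hj

theorem h8_e_E (fr : OFrame q N m e f d) {j : ℕ} (hj : j < m) :
    hermForm N F q (e j) (∑ i ∈ Finset.range m, e i) = 0 :=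
  herm_eq_zero_symm (h8_E_e fr hj)

theorem h8_E_d (fr : OFrame q N m e f d) :
    hermForm N F q (∑ i ∈ Finset.range m, e i) d = 0 := by
  rw [h8_herm_sum_left]
  apply Finset.sum_eq_zero
  intro i hi
  exact fr.ed i (Finset.mem_range.mp hi)

theorem h8_d_E (fr : OFrame q N m e f d) :
    hermForm N F q d (∑ i ∈ Finset.range m, e i) = 0 :=
  herm_eq_zero_symm (h8_E_d fr)

theorem h8_E_f (fr : OFrame q N m e f d) {j : ℕ} (hj : j < m) :
    hermForm N F q (∑ i ∈ Finset.range m, e i) (f j) = 1 := by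
  rw [h8_herm_sum_left, Finset.sum_eq_single j]
  · rw [fr.ef j j hj hj, if_pos rfl]
  · intro i hi hij
    rw [fr.ef i j (Finset.mem_range.mp hi) hj, if_neg hij]
  · intro h
    exact absurd (Finset.mem_range.mpr hj) h

theorem h8_f_E (fr : OFrame q N m e f d) {j : ℕ} (hj : j < m) :
    hermForm N F q (f j) (∑ i ∈ Finset.range m, e i) = 1 := by
  rw [← herm_conj, h8_E_f fr hj, one_pow]

theorem h8_E_E (fr : OFrame q N m e f d) :
    hermForm N F q (∑ i ∈ Finset.range m, e i) (∑ i ∈ Finset.range m, e i) = 0 := by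
  rw [h8_herm_sum_right]
  apply Finset.sum_eq_zero
  intro i hi
  exact h8_E_e fr (Finset.mem_range.mp hi)

/-! ### the chain `e_0, …, e_{m-1}, d, f_{m-1}, …` -/

/-- the chain `e_0, …, e_{m-1}, d, f_{m-1}, …, f_0`. -/
def h8_ch (e f : ℕ → Fin N → F) (d : Fin N → F) (m : ℕ) (j : ℕ) : Fin N → F :=
  if j < m then e j else if j = m then d else f (2 * m - j)

theorem h8_ch_lt {j : ℕ} (hj : j < m) : h8_ch e f d m j = e j := by
  unfold h8_ch
  rw [if_pos hj]

theorem h8_ch_m : h8_ch e f d m m = d := by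
  unfold h8_ch
  rw [if_neg (lt_irrefl m), if_pos rfl]

theorem h8_ch_succ : h8_ch e f d m (m + 1) = f (m - 1) := by
  unfold h8_ch
  rw [if_neg (by omega), if_neg (by omega)]
  congr 1
  omega

/-- the span of the first `j` chain vectors. -/
def h8_Sp (e f : ℕ → Fin N → F) (d : Fin N → F) (m : ℕ) (j : ℕ) : Submodule F (Fin N → F) :=
  Submodule.span F {v | ∃ i, i < j ∧ v = h8_ch e f d m i}

/-- the span of the chain vectors up to `f_{m-1}`. -/
def h8_S (e f : ℕ → Fin N → F) (d : Fin N → F) (m : ℕ) : Submodule F (Fin N → F) :=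
  Submodule.span F {v | ∃ i, i ≤ m + 1 ∧ v = h8_ch e f d m i}

theorem h8_e_mem_Sp {i j : ℕ} (hi : i < j) (him : i < m) : e i ∈ h8_Sp e f d m j :=
  Submodule.subset_span ⟨i, hi, (h8_ch_lt him).symm⟩

theorem h8_sum_mem_Sp {j k : ℕ} (hk : k ≤ j) (hkm : k ≤ m) :
    ∑ i ∈ Finset.range k, e i ∈ h8_Sp e f d m j := by
  apply Submodule.sum_mem
  intro i hi
  have := Finset.mem_range.mp hi
  exact h8_e_mem_Sp (by omega) (by omega)

theorem h8_e_mem_S {i : ℕ} (him : i < m) : e i ∈ h8_S e f d m :=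
  Submodule.subset_span ⟨i, by omega, (h8_ch_lt him).symm⟩

theorem h8_d_mem_S : d ∈ h8_S e f d m :=
  Submodule.subset_span ⟨m, by omega, h8_ch_m.symm⟩

theorem h8_f_mem_S : f (m - 1) ∈ h8_S e f d m :=
  Submodule.subset_span ⟨m + 1, le_refl _, h8_ch_succ.symm⟩

theorem h8_E_mem_S : ∑ i ∈ Finset.range m, e i ∈ h8_S e f d m := by
  apply Submodule.sum_mem
  intro i hi
  exact h8_e_mem_S (Finset.mem_range.mp hi)

theorem h8_p1_mem_S (s b : F) : p1 q e f d m s b ∈ h8_S e f d m := by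
  unfold p1
  exact Submodule.sub_mem _ (Submodule.sub_mem _ h8_E_mem_S (Submodule.smul_mem _ _ h8_d_mem_S))
    (Submodule.smul_mem _ _ h8_f_mem_S)

/-- the leading coefficients of `u1 − 1` along the chain. -/
def h8_nu (F : Type*) [Field F] (m : ℕ) (j : ℕ) : F := if j = m - 1 then -1 else 1

theorem h8_nu_ne (j : ℕ) : h8_nu F m j ≠ 0 := by
  unfold h8_nu
  split_ifs
  · exact neg_ne_zero.mpr one_ne_zero
  · exact one_ne_zero

theorem h8_nu_prod (hm : 2 ≤ m) : ∏ i ∈ Finset.Ico 1 (m + 1), h8_nu F m i = -1 := by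
  unfold h8_nu
  rw [Finset.prod_ite_eq', if_pos]
  rw [Finset.mem_Ico]
  omega

/-- `u1 − 1` is triangular along the chain. -/
theorem h8_T_chain (fr : OFrame q N m e f d) (hm : 2 ≤ m) {b : F} (hb : b + b ^ q + 1 = 0)
    (j : ℕ) (hj : j < m + 1) :
    h8_T (u1 q e f d m b) (h8_ch e f d m (j + 1)) - h8_nu F m j • h8_ch e f d m j
      ∈ Submodule.span F {v | ∃ i, i < j ∧ v = h8_ch e f d m i} := by
  change _ ∈ h8_Sp e f d m j
  rw [h8_T_apply]
  by_cases h1 : j + 1 < m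
  · rw [h8_ch_lt h1, h8_ch_lt (by omega : j < m), h4_u1_e fr hm hb (j + 1) h1]
    have hν : h8_nu F m j = 1 := by
      unfold h8_nu
      rw [if_neg (by omega)]
    rw [hν, one_smul, Finset.sum_range_succ, Finset.sum_range_succ]
    have : ∑ x ∈ Finset.range j, e x + e j + e (j + 1) - e (j + 1) - e j
        = ∑ x ∈ Finset.range j, e x := by abel
    rw [this]
    exact h8_sum_mem_Sp (le_refl _) (by omega)
  · by_cases h2 : j + 1 = m
    · have hjm : j = m - 1 := by omega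
      have hν : h8_nu F m j = -1 := by
        unfold h8_nu
        rw [if_pos hjm]
      rw [h2, h8_ch_m, h8_ch_lt (by omega : j < m), h4_u1_d fr hm hb, hν, ← h2,
        Finset.sum_range_succ]
      have : d - (∑ x ∈ Finset.range j, e x + e j) - d - (-1 : F) • e j
          = -∑ x ∈ Finset.range j, e x := by
        rw [neg_one_smul]; abel
      rw [this]
      exact Submodule.neg_mem _ (h8_sum_mem_Sp (le_refl _) (by omega))
    · have hjm : j = m := by omega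
      have hν : h8_nu F m j = 1 := by
        unfold h8_nu
        rw [if_neg (by omega)]
      rw [hjm] at hν ⊢
      rw [h8_ch_succ, h8_ch_m, h4_u1_f_last fr hm hb, hν, one_smul]
      have : f (m - 1) + d + b • ∑ i ∈ Finset.range m, e i - f (m - 1) - d
          = b • ∑ i ∈ Finset.range m, e i := by abel
      rw [this]
      exact Submodule.smul_mem _ _ (h8_sum_mem_Sp (le_refl _) (le_refl _))

/-! ### Stage 1: the span of `e_0, …, e_{m-1}, d, f_{m-1}` lies in `MG H (e 0)` -/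

theorem h8_stage1 (fr : OFrame q N m e f d) (hm : 2 ≤ m) {b : F} (hb : b + b ^ q + 1 = 0)
    {H : Subgroup (SU N F q)} (hu1 : u1 q e f d m b ∈ H) {k : SU N F q} (hk : k ∈ H)
    (hk0 : mt k *ᵥ e 0 = e 0) (hkS : mt k *ᵥ e 1 - e 1 ∈ h8_S e f d m)
    {g0 : F} (hg0 : hermForm N F q (mt k *ᵥ e 1 - e 1) (e (m - 1)) = g0)
    (hcl : Subfield.closure ({g0} : Set F) = ⊤)
    (hp0 : hermForm N F q (e 0) (e 0) = 0) {w0 : Fin N → F} (hw0M : w0 ∈ MG H (e 0) hp0)
    (hw0S : w0 ∈ h8_S e f d m) (hw0 : hermForm N F q w0 (e (m - 1)) ≠ 0) :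
    ∀ x ∈ h8_S e f d m, x ∈ MG H (e 0) hp0 := by
  have hc0 : h8_ch e f d m 0 = e 0 := h8_ch_lt (by omega)
  have hc1 : h8_ch e f d m 1 = e 1 := h8_ch_lt (by omega)
  have hfix := h8_u1_fix fr hm hb
  have hM0 : ∀ t : F, t • h8_ch e f d m 0 ∈ MG H (e 0) hp0 := by
    intro t
    rw [hc0]
    exact smul_self_mem_MG H hp0 t
  have hMT : ∀ x ∈ MG H (e 0) hp0, h8_T (u1 q e f d m b) x ∈ MG H (e 0) hp0 := by
    intro x hx
    rw [h8_T_apply]
    exact (MG H (e 0) hp0).sub_mem (MG_map hu1 hfix hx) hx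
  have hMk : ∀ x ∈ MG H (e 0) hp0, (mt k).mulVecLin x ∈ MG H (e 0) hp0 := by
    intro x hx
    rw [Matrix.mulVecLin_apply]
    exact MG_map hk hk0 hx
  have hT0 : h8_T (u1 q e f d m b) (h8_ch e f d m 0) = 0 := by
    rw [h8_T_apply, hc0, hfix, sub_self]
  have hzJ : h8_hl q (e (m - 1)) (h8_ch e f d m (m + 1)) = 1 := by
    rw [h8_ch_succ, h8_hl_apply, fr.fe (m - 1) (m - 1) (by omega) (by omega), if_pos rfl]
  have hz : ∀ i, i < m + 1 → h8_hl q (e (m - 1)) (h8_ch e f d m i) = 0 := by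
    intro i hi
    rw [h8_hl_apply]
    by_cases him : i < m
    · rw [h8_ch_lt him]
      exact fr.ee i (m - 1) him (by omega)
    · have : i = m := by omega
      rw [this, h8_ch_m]
      exact fr.de (m - 1) (by omega)
  have hkS' : (mt k).mulVecLin (h8_ch e f d m 1) - h8_ch e f d m 1
      ∈ Submodule.span F {v | ∃ i, i ≤ m + 1 ∧ v = h8_ch e f d m i} := by
    rw [hc1, Matrix.mulVecLin_apply]
    exact hkS
  -- the additive group of `f_{m-1}`-coordinates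
  let A : AddSubgroup F :=
    { carrier := {t | ∃ w, w ∈ MG H (e 0) hp0 ∧ w ∈ h8_S e f d m ∧ h8_hl q (e (m - 1)) w = t}
      zero_mem' := ⟨0, (MG H (e 0) hp0).zero_mem, Submodule.zero_mem _, map_zero _⟩
      add_mem' := by
        rintro t t' ⟨w, hw1, hw2, rfl⟩ ⟨w', hw1', hw2', rfl⟩
        exact ⟨w + w', (MG H (e 0) hp0).add_mem hw1 hw1', Submodule.add_mem _ hw2 hw2',
          map_add _ _ _⟩
      neg_mem' := by
        rintro t ⟨w, hw1, hw2, rfl⟩
        exact ⟨-w, (MG H (e 0) hp0).neg_mem hw1, Submodule.neg_mem _ hw2, map_neg _ _⟩ }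
  have hAmem : ∀ t, t ∈ A ↔
      ∃ w, w ∈ MG H (e 0) hp0 ∧ w ∈ h8_S e f d m ∧ h8_hl q (e (m - 1)) w = t := fun t => Iff.rfl
  have hσ : ∀ t ∈ A, g0 * t ∈ A := by
    rintro t ⟨w, hw1, hw2, rfl⟩
    obtain ⟨w', hw1', hw2', hw3'⟩ := tri_mult (h8_ch e f d m) (h8_T (u1 q e f d m b))
      (mt k).mulVecLin (h8_nu F m) (m + 1) (by omega) hT0 (h8_T_chain fr hm hb)
      (MG H (e 0) hp0) hM0 hMT hMk (h8_hl q (e (m - 1))) hzJ hz hkS' w hw1 hw2
    refine ⟨-w', (MG H (e 0) hp0).neg_mem hw1', Submodule.neg_mem _ hw2', ?_⟩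
    rw [map_neg, hw3', h8_nu_prod hm, hc1, Matrix.mulVecLin_apply, h8_hl_apply, hg0]
    ring
  have hall : ∀ t : F, t ∈ A := by
    intro t
    have h1 : hermForm N F q w0 (e (m - 1)) ∈ A := ⟨w0, hw0M, hw0S, rfl⟩
    have h2 := Cfsg.Agent.SU3G.h5_mul_mem_of_closure A g0 hσ hcl
      (t / hermForm N F q w0 (e (m - 1))) _ h1
    rwa [div_mul_cancel₀ _ hw0] at h2
  exact tri_fill (h8_ch e f d m) (h8_T (u1 q e f d m b)) (h8_nu F m) (m + 1)
    (fun j _ => h8_nu_ne j) hT0 (h8_T_chain fr hm hb) (MG H (e 0) hp0) hM0 hMT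
    (h8_hl q (e (m - 1))) hzJ hz (fun t => hall t)

/-! ### pairings with `p1` -/

theorem h8_p1_e (fr : OFrame q N m e f d) (hm : 2 ≤ m) (s b : F) {j : ℕ} (hj : j < m) :
    hermForm N F q (p1 q e f d m s b) (e j)
      = if j = m - 1 then -(s⁻¹ * s⁻¹ * b ^ q) else 0 := by
  unfold p1
  rw [hermForm_sub_left, hermForm_sub_left, hermForm_smul_left, hermForm_smul_left, h8_E_e fr hj,
    fr.de j hj, fr.fe (m - 1) j (by omega) hj]
  by_cases h : j = m - 1
  · rw [if_pos h, if_pos h.symm]; ring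
  · rw [if_neg h, if_neg (fun h' => h h'.symm)]; ring

theorem h8_e_p1 (fr : OFrame q N m e f d) (hm : 2 ≤ m) (s b : F) {j : ℕ} (hj : j < m)
    (hj' : j ≠ m - 1) : hermForm N F q (e j) (p1 q e f d m s b) = 0 := by
  apply herm_eq_zero_symm
  rw [h8_p1_e fr hm s b hj, if_neg hj']

theorem h8_f_p1 (fr : OFrame q N m e f d) (hm : 2 ≤ m) (s b : F) {j : ℕ} (hj : j < m) :
    hermForm N F q (f j) (p1 q e f d m s b) = 1 := by
  unfold p1
  rw [hermForm_sub_right hF.out, hermForm_sub_right hF.out, hermForm_smul_right,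
    hermForm_smul_right, h8_f_E fr hj, fr.fd j hj, fr.ff j (m - 1) hj (by omega)]
  ring

/-! ### the case `3 ≤ m` -/

theorem h8_rho_ge3 (fr : OFrame q N m e f d) (hm : 3 ≤ m) {b : F} (hb : b + b ^ q + 1 = 0)
    (a : F) :
    rho q e f d m b a = Sg q (e 0) (-(a ^ q) • f 2) 0 ∧ SgOK q (e 0) (-(a ^ q) • f 2) 0 := by
  obtain ⟨h1, h2⟩ := h8_rho_eq fr (by omega : 2 ≤ m) hb a
  have hu : mt (u1 q e f d m b) *ᵥ f 1 = f 1 - f 2 :=
    h4_u1_f fr (by omega : 2 ≤ m) hb 1 (by omega)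
  have hw : a ^ q • (mt (u1 q e f d m b) *ᵥ f 1 - f 1) = -(a ^ q) • f 2 := by
    rw [hu]
    module
  have hc : a * a ^ q * hermForm N F q (mt (u1 q e f d m b) *ᵥ f 1) (f 1) = 0 := by
    rw [hu, hermForm_sub_left, fr.ff 1 1 (by omega) (by omega), fr.ff 2 1 (by omega) (by omega)]
    ring
  rw [hw, hc] at h1 h2
  exact ⟨h1, h2⟩

theorem h8_k_e1_ge3 (fr : OFrame q N m e f d) (hm : 3 ≤ m) {s b : F} (hb : b + b ^ q + 1 = 0)
    (hs : s ^ q + s = 0) (hs0 : s ≠ 0) (a : F) :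
    mt ((u3 q e f d m s b)⁻¹ * rho q e f d m b a * u3 q e f d m s b) *ᵥ e 1
      = e 1 - a • p1 q e f d m s b := by
  obtain ⟨h1, h2⟩ := h8_rho_ge3 fr hm hb a
  have h3 : mt (u3 q e f d m s b) *ᵥ e 1 = e 1 - e 2 :=
    u3_e fr (by omega : 2 ≤ m) hb hs hs0 1 (by omega)
  have h10 : hermForm N F q (e 1) (e 0) = 0 := fr.ee 1 0 (by omega) (by omega)
  have h20 : hermForm N F q (e 2) (e 0) = 0 := fr.ee 2 0 (by omega) (by omega)
  have h12 : hermForm N F q (e 1) (f 2) = 0 := by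
    rw [fr.ef 1 2 (by omega) (by omega), if_neg (by omega)]
  have h22 : hermForm N F q (e 2) (f 2) = 1 := by
    rw [fr.ef 2 2 (by omega) (by omega), if_pos rfl]
  have hv1 : hermForm N F q (e 1 - e 2) (e 0) = 0 := by
    rw [hermForm_sub_left, h10, h20, sub_zero]
  have hv2 : hermForm N F q (e 1 - e 2) (-(a ^ q) • f 2) = a := by
    rw [hermForm_smul_right, hermForm_sub_left, h12, h22, neg_pow_q hF.out, pow_q_pow_q hF.out]
    ring
  rw [mt_mul_mulVec, mt_mul_mulVec, h3, h1, Sg_mulVec h2, hv1, hv2]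
  have : e 1 - e 2 + (0 : F) • (-(a ^ q) • f 2) - a • e 0
      + ((0 : F) * 0) • e 0 = mt (u3 q e f d m s b) *ᵥ e 1 - a • e 0 := by
    rw [h3]
    module
  rw [this, mulVec_sub, mulVec_smul, mt_inv_mulVec', u3_inv_e0 fr (by omega : 2 ≤ m) hb hs hs0]

theorem h8_start_ge3 (fr : OFrame q N m e f d) (hm : 3 ≤ m) {b a : F} (hb : b + b ^ q + 1 = 0)
    (ha : a ≠ 0) {H : Subgroup (SU N F q)} (hu1 : u1 q e f d m b ∈ H)
    (hρ : rho q e f d m b a ∈ H) (hp0 : hermForm N F q (e 0) (e 0) = 0) :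
    ∀ j, 2 ≤ j → j < m → ∃ t : F, t ≠ 0 ∧ t • f j ∈ MG H (e 0) hp0 := by
  intro j hj
  induction j, hj using Nat.le_induction with
  | base =>
    intro _
    obtain ⟨h1, h2⟩ := h8_rho_ge3 fr hm hb a
    refine ⟨-(a ^ q), neg_ne_zero.mpr (pow_ne_zero q ha), 0, h2, ?_⟩
    rw [← h1]
    exact hρ
  | succ j hj ih =>
    intro hjm
    obtain ⟨t, ht, htM⟩ := ih (by omega)
    refine ⟨-t, neg_ne_zero.mpr ht, ?_⟩
    have h1 := MG_map hu1 (h8_u1_fix fr (by omega : 2 ≤ m) hb) htM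
    have h2 := (MG H (e 0) hp0).sub_mem h1 htM
    rw [mulVec_smul, h4_u1_f fr (by omega : 2 ≤ m) hb j hjm] at h2
    have : t • (f j - f (j + 1)) - t • f j = -t • f (j + 1) := by module
    rwa [this] at h2

/-- Stage 1 for `3 ≤ m`. -/
theorem h8_span_ge3 (fr : OFrame q N m e f d) (hm : 3 ≤ m) {s b a : F} (hb : b + b ^ q + 1 = 0)
    (hs : s ^ q + s = 0) (hs0 : s ≠ 0) (ha : a ≠ 0)
    (h3 : Subfield.closure ({a * s⁻¹ * s⁻¹ * b ^ q} : Set F) = ⊤)
    {H : Subgroup (SU N F q)} (hu1 : u1 q e f d m b ∈ H) (hu3 : u3 q e f d m s b ∈ H)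
    (hρ : rho q e f d m b a ∈ H) (hp0 : hermForm N F q (e 0) (e 0) = 0) :
    ∀ x ∈ h8_S e f d m, x ∈ MG H (e 0) hp0 := by
  have hm2 : 2 ≤ m := by omega
  obtain ⟨h1, h2⟩ := h8_rho_ge3 fr hm hb a
  have hk : (u3 q e f d m s b)⁻¹ * rho q e f d m b a * u3 q e f d m s b ∈ H :=
    H.mul_mem (H.mul_mem (H.inv_mem hu3) hρ) hu3
  have hk0 : mt ((u3 q e f d m s b)⁻¹ * rho q e f d m b a * u3 q e f d m s b) *ᵥ e 0 = e 0 := by
    rw [h1]
    have h30 : mt (u3 q e f d m s b) *ᵥ e 0 = e 0 - e 1 := u3_e fr hm2 hb hs hs0 0 (by omega)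
    apply h8_conj_fix_gen fr hm2 h30 h2
    rw [hermForm_smul_right, hermForm_sub_left, fr.ef 0 2 (by omega) (by omega),
      fr.ef 1 2 (by omega) (by omega), if_neg (by omega), if_neg (by omega)]
    ring
  have hke := h8_k_e1_ge3 fr hm hb hs hs0 a
  have hd : mt ((u3 q e f d m s b)⁻¹ * rho q e f d m b a * u3 q e f d m s b) *ᵥ e 1 - e 1
      = -a • p1 q e f d m s b := by
    rw [hke]
    module
  have hkS : mt ((u3 q e f d m s b)⁻¹ * rho q e f d m b a * u3 q e f d m s b) *ᵥ e 1 - e 1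
      ∈ h8_S e f d m := by
    rw [hd]
    exact Submodule.smul_mem _ _ (h8_p1_mem_S s b)
  have hg0 : hermForm N F q
      (mt ((u3 q e f d m s b)⁻¹ * rho q e f d m b a * u3 q e f d m s b) *ᵥ e 1 - e 1) (e (m - 1))
      = a * s⁻¹ * s⁻¹ * b ^ q := by
    rw [hd, hermForm_smul_left, h8_p1_e fr hm2 s b (by omega : m - 1 < m), if_pos rfl]
    ring
  obtain ⟨t, ht, htM⟩ := h8_start_ge3 fr hm hb ha hu1 hρ hp0 (m - 1) (by omega) (by omega)
  have hw0 : hermForm N F q (t • f (m - 1)) (e (m - 1)) ≠ 0 := by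
    rw [hermForm_smul_left, fr.fe (m - 1) (m - 1) (by omega) (by omega), if_pos rfl, mul_one]
    exact ht
  exact h8_stage1 fr hm2 hb hu1 hk hk0 hkS hg0 h3 hp0 htM
    (Submodule.smul_mem _ _ h8_f_mem_S) hw0

/-! ### the case `m = 2` -/

theorem h8_gen_two_ne {s b : F} (hb : b + b ^ q + 1 = 0) (hs : s ^ q + s = 0) :
    b + 2 * s⁻¹ ≠ 0 := by
  intro h
  have h1 : (b + 2 * s⁻¹) ^ q + (b + 2 * s⁻¹) = -1 := by
    rw [add_pow_q hF.out, mul_pow, h4_inv_pow_q hs]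
    have h2 : (2 : F) ^ q = 2 := by
      have := add_pow_q hF.out (1 : F) 1
      rw [one_pow, one_add_one_eq_two] at this
      exact this
    rw [h2]
    linear_combination hb
  rw [h, zero_pow (by have := one_le_q hF.out; omega), add_zero] at h1
  exact one_ne_zero (neg_eq_zero.mp h1.symm)

/-- Stage 1 for `m = 2`. -/
theorem h8_span_two (fr : OFrame q N 2 e f d) {s b a : F} (hb : b + b ^ q + 1 = 0)
    (hs : s ^ q + s = 0) (hs0 : s ≠ 0) (ha0 : a ≠ 0) (ha : a = s * s / b ^ q)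
    (hcl : Subfield.closure ({b + 2 * s⁻¹} : Set F) = ⊤)
    {H : Subgroup (SU N F q)} (hu1 : u1 q e f d 2 b ∈ H) (hu3 : u3 q e f d 2 s b ∈ H)
    (hρ : rho q e f d 2 b a ∈ H) (hp0 : hermForm N F q (e 0) (e 0) = 0) :
    ∀ x ∈ h8_S e f d 2, x ∈ MG H (e 0) hp0 := by
  have hm2 : 2 ≤ 2 := le_refl 2
  obtain ⟨h1, h2⟩ := h8_rho_two fr hb a
  have hk : (u3 q e f d 2 s b)⁻¹ * rho q e f d 2 b a * u3 q e f d 2 s b ∈ H :=
    H.mul_mem (H.mul_mem (H.inv_mem hu3) hρ) hu3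
  obtain ⟨hk0, ⟨x0, x1, x2, x3, hx⟩, hz⟩ := h8_k_two fr hb hs hs0 ha
  -- `a^q • e 1 ∈ MG`
  have hwM : a ^ q • (d + b • (e 0 + e 1)) ∈ MG H (e 0) hp0 := by
    refine ⟨_, h2, ?_⟩
    rw [← h1]
    exact hρ
  have hfix := h8_u1_fix fr hm2 hb
  have hu1e1 : mt (u1 q e f d 2 b) *ᵥ e 1 = e 0 + e 1 := by
    rw [h4_u1_e fr hm2 hb 1 (by omega), Finset.sum_range_succ, Finset.sum_range_one]
  have hu1d : mt (u1 q e f d 2 b) *ᵥ d = d - (e 0 + e 1) := by
    rw [h4_u1_d fr hm2 hb, Finset.sum_range_succ, Finset.sum_range_one]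
  have hTw := (MG H (e 0) hp0).sub_mem (MG_map hu1 hfix hwM) hwM
  rw [mulVec_smul, mulVec_add, mulVec_smul, mulVec_add, hfix, hu1e1, hu1d] at hTw
  have he1M : a ^ q • e 1 ∈ MG H (e 0) hp0 := by
    have h3 := (MG H (e 0) hp0).sub_mem (smul_self_mem_MG H hp0 (a ^ q * (b - 1))) hTw
    have : (a ^ q * (b - 1)) • e 0
        - (a ^ q • (d - (e 0 + e 1) + b • (e 0 + (e 0 + e 1))) - a ^ q • (d + b • (e 0 + e 1)))
        = a ^ q • e 1 := by module
    rwa [this] at h3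
  have hkS : mt ((u3 q e f d 2 s b)⁻¹ * rho q e f d 2 b a * u3 q e f d 2 s b) *ᵥ e 1 - e 1
      ∈ h8_S e f d 2 := by
    rw [hx]
    exact Submodule.add_mem _ (Submodule.add_mem _ (Submodule.add_mem _
      (Submodule.smul_mem _ _ (h8_e_mem_S (by omega))) (Submodule.smul_mem _ _ (h8_e_mem_S (by omega))))
      (Submodule.smul_mem _ _ h8_d_mem_S)) (Submodule.smul_mem _ _ h8_f_mem_S)
  -- the start element
  have hw0M := (MG H (e 0) hp0).sub_mem (MG_map hk hk0 he1M) he1M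
  have hw0eq : mt ((u3 q e f d 2 s b)⁻¹ * rho q e f d 2 b a * u3 q e f d 2 s b) *ᵥ (a ^ q • e 1)
        - a ^ q • e 1
      = a ^ q • (mt ((u3 q e f d 2 s b)⁻¹ * rho q e f d 2 b a * u3 q e f d 2 s b) *ᵥ e 1 - e 1) := by
    rw [mulVec_smul, smul_sub]
  rw [hw0eq] at hw0M
  have hw0 : hermForm N F q
      (a ^ q • (mt ((u3 q e f d 2 s b)⁻¹ * rho q e f d 2 b a * u3 q e f d 2 s b) *ᵥ e 1 - e 1))
      (e (2 - 1)) ≠ 0 := by
    rw [hermForm_smul_left]
    exact mul_ne_zero (pow_ne_zero q ha0) (by rw [show (2 : ℕ) - 1 = 1 from rfl, hz]; exact h8_gen_two_ne hb hs)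
  exact h8_stage1 fr hm2 hb hu1 hk hk0 hkS hz hcl hp0 hw0M (Submodule.smul_mem _ _ hkS) hw0

/-! ### BIG -/

/-- **BIG**: the whole radical of the point `⟨e 0⟩` occurs in `H`. -/
theorem big_e0 (fr : OFrame q N m e f d) (hm : 2 ≤ m) {s b a : F}
    (hb : b + b ^ q + 1 = 0) (hs : s ^ q + s = 0) (hs0 : s ≠ 0) (ha : a ≠ 0)
    (h3 : 3 ≤ m → Subfield.closure ({a * s⁻¹ * s⁻¹ * b ^ q} : Set F) = ⊤)
    (h2 : m = 2 → a = s * s / b ^ q ∧ Subfield.closure ({b + 2 * s⁻¹} : Set F) = ⊤)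
    {H : Subgroup (SU N F q)} (hu1 : u1 q e f d m b ∈ H) (hu3 : u3 q e f d m s b ∈ H)
    (hρ : rho q e f d m b a ∈ H) : Big H (e 0) := by
  have hp0 : hermForm N F q (e 0) (e 0) = 0 := fr.ee 0 0 (by omega) (by omega)
  have hS : ∀ x ∈ h8_S e f d m, x ∈ MG H (e 0) hp0 := by
    rcases Nat.lt_or_ge 2 m with h | h
    · exact h8_span_ge3 fr h hb hs hs0 ha (h3 h) hu1 hu3 hρ hp0
    · have hm2 : m = 2 := by omega
      obtain ⟨ha2, hcl⟩ := h2 hm2
      subst hm2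
      exact h8_span_two fr hb hs hs0 ha ha2 hcl hu1 hu3 hρ hp0
  exact h7_big_of_stage1 fr hm hb hs hs0 hu3 hp0
    (fun i hi t => hS _ (Submodule.smul_mem _ _ (h8_e_mem_S hi)))
    (fun t => hS _ (Submodule.smul_mem _ _ h8_d_mem_S))
    (fun t => hS _ (Submodule.smul_mem _ _ h8_f_mem_S))

end Cfsg.Agent.SUTri
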