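import Mathlib
import Cfsg.Agent.SUTri.H8_Big
import Cfsg.Agent.SUTri.H7_Orb
import Cfsg.Agent.SUTri.H4_U3

set_option autoImplicit false
set_option linter.unusedSectionVars false
set_option linter.unusedVariables false

/-!
# S2282 swarm, piece MAIN (helper8): a subgroup containing `u1`, `u3`, `rho` is everything
-/

namespace Cfsg.Agent.SUTri

open Matrix Cfsg Cfsg.Agent.Helper7.Herm Cfsg.Agent.Helper8.GUOrder Cfsg.Agent.Helper8.SURoot

variable {F : Type*} [Field F] [Fintype F] {q N : ℕ} [hF : Fact (Fintype.card F = q ^ 2)]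
variable {m : ℕ} {e f : ℕ → Fin N → F} {d : Fin N → F}

theorem h8_b_ne_zero {b : F} (hb : b + b ^ q + 1 = 0) : b ≠ 0 := by
  intro h
  rw [h, zero_pow (by have := one_le_q hF.out; omega), add_zero, zero_add] at hb
  exact one_ne_zero hb

/-- **MAIN**: a subgroup of `SU_N(q)` (`N = 2m+1 ≥ 5`) containing `u1`, `u3` and `rho` is the
whole group. -/
theorem eq_top_of_mem (fr : OFrame q N m e f d) (hN : N = 2 * m + 1) (hm : 2 ≤ m) {s b a : F}
    (hb : b + b ^ q + 1 = 0) (hs : s ^ q + s = 0) (hs0 : s ≠ 0) (ha : a ≠ 0)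
    (h3 : 3 ≤ m → Subfield.closure ({a * s⁻¹ * s⁻¹ * b ^ q} : Set F) = ⊤)
    (h2 : m = 2 → a = s * s / b ^ q ∧ Subfield.closure ({b + 2 * s⁻¹} : Set F) = ⊤)
    {H : Subgroup (SU N F q)} (hu1 : u1 q e f d m b ∈ H) (hu3 : u3 q e f d m s b ∈ H)
    (hρ : rho q e f d m b a ∈ H) : H = ⊤ := by
  have hB := big_e0 fr hm hb hs hs0 ha h3 h2 hu1 hu3 hρ
  refine h7_main fr (by omega) (by omega) (by omega) hB hu3
    (fun j hj => u3_e fr hm hb hs hs0 j hj) ?_
  rw [u3_e_last fr hm hb hs hs0, hermForm_sub_left, hermForm_add_left, hermForm_smul_left,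
    hermForm_smul_left, h8_herm_sum_left, fr.ee (m - 1) (m - 1) (by omega) (by omega),
    fr.de (m - 1) (by omega), Finset.sum_eq_single (m - 1)]
  · rw [fr.fe (m - 1) (m - 1) (by omega) (by omega), if_pos rfl]
    have : (0 : F) + s⁻¹ * 0 - b * s⁻¹ * s⁻¹ * 1 = -(b * s⁻¹ * s⁻¹) := by ring
    rw [this]
    exact neg_ne_zero.mpr (mul_ne_zero (mul_ne_zero (h8_b_ne_zero hb) (inv_ne_zero hs0))
      (inv_ne_zero hs0))
  · intro i hi hne
    rw [fr.fe i (m - 1) (Finset.mem_range.mp hi) (by omega), if_neg hne]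
  · intro h
    exact absurd (Finset.mem_range.mpr (by omega : m - 1 < m)) h

end Cfsg.Agent.SUTri
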