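import Mathlib

set_option autoImplicit false

/-!
# S2282 swarm piece REG (helper3, fallback owner): the chain criterion for regular unipotents

If `A` fixes `c 0 ≠ 0`, `(A - 1) c (j+1) = ν_j c j + span (c i, i < j)` with `ν_j ≠ 0`, and the chain
`c 0, …, c (N-1)` spans `F^N`, then `A - 1` is nilpotent with `(A - 1)^(N-1) ≠ 0`.
-/

namespace Cfsg.Agent.SUTri

open Matrix

section reg

variable {F : Type*} [Field F] {N : ℕ}

/-- the span of the first `j` chain vectors. -/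
def h3_W (c : ℕ → Fin N → F) (j : ℕ) : Submodule F (Fin N → F) :=
  Submodule.span F {v | ∃ i, i < j ∧ v = c i}

theorem h3_W_mono (c : ℕ → Fin N → F) {j j' : ℕ} (h : j ≤ j') : h3_W c j ≤ h3_W c j' :=
  Submodule.span_mono (fun _ ⟨i, hi, hv⟩ => ⟨i, lt_of_lt_of_le hi h, hv⟩)

theorem h3_mem_W (c : ℕ → Fin N → F) {i j : ℕ} (h : i < j) : c i ∈ h3_W c j :=
  Submodule.subset_span ⟨i, h, rfl⟩

theorem h3_W_zero (c : ℕ → Fin N → F) : h3_W c 0 = ⊥ := by
  unfold h3_W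
  rw [Submodule.span_eq_bot]
  rintro v ⟨i, hi, -⟩
  exact absurd hi (Nat.not_lt_zero i)

/-- `A - 1` lowers the chain filtration by one. -/
theorem h3_lower (A : Matrix (Fin N) (Fin N) F) (c : ℕ → Fin N → F) (h0 : A *ᵥ c 0 = c 0)
    (hstep : ∀ j, j + 1 < N → ∃ ν : F, ν ≠ 0 ∧
      A *ᵥ c (j + 1) - c (j + 1) - ν • c j ∈ h3_W c j)
    (j : ℕ) (hj : j < N) (x : Fin N → F) (hx : x ∈ h3_W c (j + 1)) :
    (A - 1) *ᵥ x ∈ h3_W c j := by
  unfold h3_W at hx
  induction hx using Submodule.span_induction with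
  | mem v hv =>
    obtain ⟨i, hi, rfl⟩ := hv
    rcases i with _ | i
    · rw [sub_mulVec, one_mulVec, h0, sub_self]
      exact Submodule.zero_mem _
    · obtain ⟨ν, -, hν⟩ := hstep i (by omega)
      have e : (A - 1) *ᵥ c (i + 1) = (A *ᵥ c (i + 1) - c (i + 1) - ν • c i) + ν • c i := by
        rw [sub_mulVec, one_mulVec]
        abel
      rw [e]
      exact Submodule.add_mem _ (h3_W_mono c (by omega) hν)
        (Submodule.smul_mem _ _ (h3_mem_W c (by omega)))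
  | zero =>
    rw [mulVec_zero]
    exact Submodule.zero_mem _
  | add x y _ _ hx hy =>
    rw [mulVec_add]
    exact Submodule.add_mem _ hx hy
  | smul a x _ hx =>
    rw [mulVec_smul]
    exact Submodule.smul_mem _ _ hx

theorem h3_pow_lower (A : Matrix (Fin N) (Fin N) F) (c : ℕ → Fin N → F) (h0 : A *ᵥ c 0 = c 0)
    (hstep : ∀ j, j + 1 < N → ∃ ν : F, ν ≠ 0 ∧
      A *ᵥ c (j + 1) - c (j + 1) - ν • c j ∈ h3_W c j) (k : ℕ) :
    ∀ j, j ≤ N → ∀ x ∈ h3_W c j, ((A - 1) ^ k) *ᵥ x ∈ h3_W c (j - k) := by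
  induction k with
  | zero =>
    intro j _ x hx
    rw [pow_zero, one_mulVec]
    exact hx
  | succ k ih =>
    intro j hj x hx
    rw [pow_succ, ← mulVec_mulVec]
    rcases j with _ | j
    · rw [h3_W_zero, Submodule.mem_bot] at hx
      rw [hx, mulVec_zero, mulVec_zero]
      exact Submodule.zero_mem _
    · have h1 := h3_lower A c h0 hstep j (by omega) x hx
      have h2 := ih j (by omega) _ h1
      have e : j + 1 - (k + 1) = j - k := by omega
      rw [e]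
      exact h2

theorem h3_pow_top (A : Matrix (Fin N) (Fin N) F) (c : ℕ → Fin N → F) (h0 : A *ᵥ c 0 = c 0)
    (hstep : ∀ j, j + 1 < N → ∃ ν : F, ν ≠ 0 ∧
      A *ᵥ c (j + 1) - c (j + 1) - ν • c j ∈ h3_W c j) (k : ℕ) :
    ∀ j, j + k < N → ∃ μ : F, μ ≠ 0 ∧ ((A - 1) ^ k) *ᵥ c (j + k) - μ • c j ∈ h3_W c j := by
  induction k with
  | zero =>
    intro j _
    refine ⟨1, one_ne_zero, ?_⟩
    rw [pow_zero, one_mulVec, one_smul, add_zero, sub_self]
    exact Submodule.zero_mem _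
  | succ k ih =>
    intro j hj
    obtain ⟨μ, hμ, h1⟩ := ih (j + 1) (by omega)
    obtain ⟨ν, hν, h2⟩ := hstep j (by omega)
    refine ⟨μ * ν, mul_ne_zero hμ hν, ?_⟩
    have e1 : j + (k + 1) = j + 1 + k := by omega
    rw [e1, pow_succ', ← mulVec_mulVec]
    generalize (A - 1) ^ k *ᵥ c (j + 1 + k) = P at h1 ⊢
    have e2 : (A - 1) *ᵥ P - (μ * ν) • c j
        = (A - 1) *ᵥ (P - μ • c (j + 1)) + μ • (A *ᵥ c (j + 1) - c (j + 1) - ν • c j) := by
      rw [mulVec_sub, mulVec_smul, sub_mulVec A 1 (c (j + 1)), one_mulVec, mul_smul]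
      module
    rw [e2]
    exact Submodule.add_mem _ (h3_lower A c h0 hstep j (by omega) _ h1)
      (Submodule.smul_mem _ _ h2)

/-- **REG**: the chain criterion for a regular unipotent matrix (stub name of the blueprint). -/
theorem h5_regular (A : Matrix (Fin N) (Fin N) F) (c : ℕ → Fin N → F)
    (hN : 0 < N) (h0 : A *ᵥ c 0 = c 0) (hc0 : c 0 ≠ 0)
    (hstep : ∀ j, j + 1 < N → ∃ ν : F, ν ≠ 0 ∧
      A *ᵥ c (j + 1) - c (j + 1) - ν • c j ∈ Submodule.span F {v | ∃ i, i < j ∧ v = c i})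
    (hspan : ∀ x : Fin N → F, x ∈ Submodule.span F {v | ∃ i, i < N ∧ v = c i}) :
    IsNilpotent (A - 1) ∧ (A - 1) ^ (N - 1) ≠ 0 := by
  have hst : ∀ j, j + 1 < N → ∃ ν : F, ν ≠ 0 ∧
      A *ᵥ c (j + 1) - c (j + 1) - ν • c j ∈ h3_W c j := hstep
  refine ⟨⟨N, ?_⟩, ?_⟩
  · apply Matrix.ext_iff_mulVec.mpr
    intro x
    have := h3_pow_lower A c h0 hst N N le_rfl x (hspan x)
    rw [Nat.sub_self, h3_W_zero, Submodule.mem_bot] at this
    rw [this, zero_mulVec]
  · intro h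
    obtain ⟨μ, hμ, h1⟩ := h3_pow_top A c h0 hst (N - 1) 0 (by omega)
    rw [zero_add, h, zero_mulVec, zero_sub, h3_W_zero, Submodule.mem_bot, neg_eq_zero] at h1
    rcases smul_eq_zero.1 h1 with h | h
    · exact hμ h
    · exact hc0 h

end reg

end Cfsg.Agent.SUTri
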