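import Mathlib
import Cfsg.Agent.SUTri.Base
import Cfsg.Agent.SUTri.H3_RegChain

/-!
# S2282 swarm (helper9): regularity of `u1` from its action table

* `h9_ch m e f d`             : the chain `e_0, …, e_{m-1}, d, f_{m-1}, …, f_0`
* `h9_regular_of_tables`      : a matrix with the action table of `u1` on a hyperbolic frame is
  regular unipotent (generic in the matrix; consumes helper3's `h5_regular`)
-/

set_option autoImplicit false
set_option linter.unusedSectionVars false

namespace Cfsg.Agent.SUTri

open Matrix Cfsg Cfsg.Agent.Helper7.Herm Cfsg.Agent.Helper8.GUOrder Cfsg.Agent.Helper8.SURoot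

variable {F : Type*} [Field F] [Fintype F] {q N : ℕ} [hF : Fact (Fintype.card F = q ^ 2)]
variable {m : ℕ} {e f : ℕ → Fin N → F} {d : Fin N → F}

/-- the chain `e_0, …, e_{m-1}, d, f_{m-1}, …, f_0`. -/
def h9_ch (m : ℕ) (e f : ℕ → Fin N → F) (d : Fin N → F) (i : ℕ) : Fin N → F :=
  if i < m then e i else if i = m then d else f (2 * m - i)

omit [Fintype F] hF in
theorem h9_ch_e {i : ℕ} (hi : i < m) : h9_ch m e f d i = e i := by
  unfold h9_ch; rw [if_pos hi]

omit [Fintype F] hF in
theorem h9_ch_d : h9_ch m e f d m = d := by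
  unfold h9_ch; rw [if_neg (lt_irrefl m), if_pos rfl]

omit [Fintype F] hF in
theorem h9_ch_f {i : ℕ} (hi : i < m) : h9_ch m e f d (2 * m - i) = f i := by
  unfold h9_ch
  rw [if_neg (by omega), if_neg (by omega)]
  congr 1; omega

omit [Fintype F] hF in
theorem h9_ch_f' {j : ℕ} (h1 : m < j) : h9_ch m e f d j = f (2 * m - j) := by
  unfold h9_ch
  rw [if_neg (by omega), if_neg (by omega)]

omit [Fintype F] hF in
/-- chain vectors lie in the span of the initial segments. -/
theorem h9_ch_mem {i j : ℕ} (h : i < j) :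
    h9_ch m e f d i ∈ Submodule.span F {v | ∃ i, i < j ∧ v = h9_ch m e f d i} :=
  Submodule.subset_span ⟨i, h, rfl⟩

omit [Fintype F] hF in
theorem h9_e_mem {i j : ℕ} (h : i < j) (hi : i < m) :
    e i ∈ Submodule.span F {v | ∃ i, i < j ∧ v = h9_ch m e f d i} := by
  rw [← h9_ch_e (e := e) (f := f) (d := d) hi]
  exact h9_ch_mem h

omit [Fintype F] hF in
theorem h9_sum_e_mem {k j : ℕ} (h : k ≤ j) (hk : k ≤ m) :
    ∑ i ∈ Finset.range k, e i ∈ Submodule.span F {v | ∃ i, i < j ∧ v = h9_ch m e f d i} := by
  apply Submodule.sum_mem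
  intro i hi
  rw [Finset.mem_range] at hi
  exact h9_e_mem (by omega) (by omega)

/-- **Regularity from the action table.** -/
theorem h9_regular_of_tables (fr : OFrame q N m e f d) (hN : N = 2 * m + 1) (hm : 2 ≤ m)
    (A : Matrix (Fin N) (Fin N) F) (b : F)
    (hAe : ∀ j, j < m → A *ᵥ e j = ∑ i ∈ Finset.range (j + 1), e i)
    (hAd : A *ᵥ d = d - ∑ i ∈ Finset.range m, e i)
    (hAfl : A *ᵥ f (m - 1) = f (m - 1) + d + b • ∑ i ∈ Finset.range m, e i)
    (hAf : ∀ j, j + 1 < m → A *ᵥ f j = f j - f (j + 1)) :
    IsNilpotent (A - 1) ∧ (A - 1) ^ (N - 1) ≠ 0 := by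
  apply h5_regular A (h9_ch m e f d) (by omega)
  · -- `A c_0 = c_0`
    rw [h9_ch_e (by omega : 0 < m), hAe 0 (by omega), Finset.sum_range_one]
  · -- `c_0 ≠ 0`
    rw [h9_ch_e (by omega : 0 < m)]
    intro h0
    have h1 := fr.ef 0 0 (by omega) (by omega)
    rw [h0, hermForm_zero_left, if_pos rfl] at h1
    exact zero_ne_one h1
  · -- the steps
    intro j hj
    rcases Nat.lt_trichotomy (j + 1) m with h | h | h
    · -- `e_{j+1}`
      refine ⟨1, one_ne_zero, ?_⟩
      rw [h9_ch_e h, h9_ch_e (by omega : j < m), hAe (j + 1) h, Finset.sum_range_succ,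
        Finset.sum_range_succ, one_smul]
      have : ∑ x ∈ Finset.range j, e x + e j + e (j + 1) - e (j + 1) - e j
          = ∑ x ∈ Finset.range j, e x := by abel
      rw [this]
      exact h9_sum_e_mem le_rfl (by omega)
    · -- `d`
      refine ⟨-1, neg_ne_zero.mpr one_ne_zero, ?_⟩
      rw [h, h9_ch_d, h9_ch_e (by omega : j < m), hAd, ← h, Finset.sum_range_succ]
      have : d - (∑ x ∈ Finset.range j, e x + e j) - d - (-1 : F) • e j
          = -∑ x ∈ Finset.range j, e x := by
        rw [neg_smul, one_smul]; abel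
      rw [this]
      exact Submodule.neg_mem _ (h9_sum_e_mem le_rfl (by omega))
    · rcases Nat.eq_or_lt_of_le (by omega : m ≤ j) with h' | h'
      · -- `f_{m-1}`
        subst h'
        refine ⟨1, one_ne_zero, ?_⟩
        rw [h9_ch_f' (by omega : m < m + 1), h9_ch_d,
          (by omega : 2 * m - (m + 1) = m - 1), hAfl, one_smul]
        have : f (m - 1) + d + b • ∑ i ∈ Finset.range m, e i - f (m - 1) - d
            = b • ∑ i ∈ Finset.range m, e i := by abel
        rw [this]
        exact Submodule.smul_mem _ _ (h9_sum_e_mem le_rfl le_rfl)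
      · -- `f_k`, `k + 1 < m`
        refine ⟨-1, neg_ne_zero.mpr one_ne_zero, ?_⟩
        rw [h9_ch_f' (by omega : m < j + 1), h9_ch_f' h',
          (by omega : 2 * m - j = (2 * m - (j + 1)) + 1), hAf _ (by omega)]
        have : f (2 * m - (j + 1)) - f (2 * m - (j + 1) + 1) - f (2 * m - (j + 1))
            - (-1 : F) • f (2 * m - (j + 1) + 1) = 0 := by
          rw [neg_smul, one_smul]; abel
        rw [this]
        exact Submodule.zero_mem _
  · -- the chain spans
    intro x
    have hx := fr.expand x
    have key : ∑ i ∈ Finset.range m,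
        (hermForm N F q x (f i) • e i + hermForm N F q x (e i) • f i) + hermForm N F q x d • d
        ∈ Submodule.span F {v | ∃ i, i < N ∧ v = h9_ch m e f d i} := by
      apply Submodule.add_mem
      · apply Submodule.sum_mem
        intro i hi
        rw [Finset.mem_range] at hi
        apply Submodule.add_mem
        · exact Submodule.smul_mem _ _ (h9_e_mem (by omega) hi)
        · apply Submodule.smul_mem
          have h1 := h9_ch_mem (m := m) (e := e) (f := f) (d := d) (i := 2 * m - i) (j := N)
            (by omega)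
          rwa [h9_ch_f hi] at h1
      · apply Submodule.smul_mem
        have h1 := h9_ch_mem (m := m) (e := e) (f := f) (d := d) (i := m) (j := N) (by omega)
        rwa [h9_ch_d] at h1
    rwa [← hx] at key

end Cfsg.Agent.SUTri
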