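import Cfsg.Agent.S2283

/-!
# S2282, the case n = 3 (quoted from the landed S2283)

For `n = 3` the statement of S2282 follows from S2283 with `h := g`.
-/

set_option autoImplicit false
open Cfsg

namespace Cfsg.Agent.SUTri

/-- The case `n = 3` of S2282: from the two conjugate regular unipotent generators of `SU_3(q)`, `q ≥ 3`. -/
theorem l_n3_case {F : Type*} [Field F] [Fintype F] (q : ℕ) (hF : Fintype.card F = q ^ 2)
    (h32 : ¬ q = 2) :
    ∃ u g h : ↥(Cfsg.SU 3 F q), (IsNilpotent (((u : Matrix.SpecialLinearGroup (Fin 3) F) : Matrix (Fin 3) (Fin 3) F) - 1) ∧ (((u : Matrix.SpecialLinearGroup (Fin 3) F) : Matrix (Fin 3) (Fin 3) F) - 1) ^ (3 - 1) ≠ 0) ∧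
      Subgroup.closure ({u, g * u * g⁻¹, h * u * h⁻¹} : Set ↥(Cfsg.SU 3 F q)) = ⊤ := by
  have hq : 3 ≤ q := by
    have h1 : 1 < Fintype.card F := Fintype.one_lt_card
    rw [hF] at h1
    rcases Nat.lt_or_ge q 3 with h | h
    · interval_cases q
      · simp at h1
      · simp at h1
      · exact absurd rfl h32
    · exact h
  obtain ⟨u, g, hu, hcl⟩ := Cfsg.Agent.S2283.result (F := F) q hq hF
  refine ⟨u, g, g, hu, ?_⟩
  have : ({u, g * u * g⁻¹, g * u * g⁻¹} : Set ↥(Cfsg.SU 3 F q)) = {u, g * u * g⁻¹} := by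
    ext x; simp
  rw [this]; exact hcl

end Cfsg.Agent.SUTri
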