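import Mathlib
import Cfsg.Agent.SUTri.Elts
import Cfsg.Agent.SUTri.H1_NT
import Cfsg.Agent.SUTri.H3_FrameInst
import Cfsg.Agent.SUTri.L_N3
import Cfsg.Agent.SUTri.H4_U3
import Cfsg.Agent.SUTri.H4_U1tab
import Cfsg.Agent.SUTri.H9_U1Reg
import Cfsg.Agent.SUTri.H8_Main

/-!
# S2282 swarm (helper9): the final assembly

* `h9_params`   : the field elements `s, b, a` satisfying the hypotheses of `eq_top_of_mem`
* `h9_gen_frame`: for any hyperbolic frame, `u1`, `xr 0 a`, `n0 m` do the job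
* `h9_asm`      : the statement of S2282 for `n = 2 * m + 1`, `2 ≤ m`
* `h9_S2282`    : the statement of S2282
-/

set_option autoImplicit false
set_option linter.unusedSectionVars false

namespace Cfsg.Agent.SUTri

open Matrix Cfsg Cfsg.Agent.Helper7.Herm Cfsg.Agent.Helper8.GUOrder Cfsg.Agent.Helper8.SURoot

variable {F : Type*} [Field F] [Fintype F] {q N : ℕ} [hF : Fact (Fintype.card F = q ^ 2)]

/-- the field elements of the construction. -/
theorem h9_params (m : ℕ) :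
    ∃ s b a : F, b + b ^ q + 1 = 0 ∧ s ^ q + s = 0 ∧ s ≠ 0 ∧ a ≠ 0 ∧
      (3 ≤ m → Subfield.closure ({a * s⁻¹ * s⁻¹ * b ^ q} : Set F) = ⊤) ∧
      (m = 2 → a = s * s / b ^ q ∧ Subfield.closure ({b + 2 * s⁻¹} : Set F) = ⊤) := by
  obtain ⟨s, hs0, hs⟩ := exists_tz_ne_zero (F := F) (q := q)
  by_cases hm2 : m = 2
  · -- `b := b' - 2 s⁻¹`, `a := s² / b^q`
    obtain ⟨b', hb', hgen⟩ := h1_exists_gen_trace (F := F) hF.out
    have hsq : s ^ q = -s := by linear_combination hs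
    have hsinv : (s⁻¹) ^ q = -s⁻¹ := by
      rw [inv_pow, hsq, inv_neg]
    have h2q : (2 : F) ^ q = 2 := by
      have h := add_pow_q hF.out (1 : F) 1
      rw [one_pow, one_add_one_eq_two] at h
      exact h
    have hb : (b' - 2 * s⁻¹) + (b' - 2 * s⁻¹) ^ q + 1 = 0 := by
      rw [sub_pow_q hF.out, mul_pow, h2q, hsinv]
      linear_combination hb'
    have hb0 : b' - 2 * s⁻¹ ≠ 0 := by
      intro h0
      rw [h0, zero_pow (by have := one_le_q hF.out; omega), add_zero, zero_add] at hb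
      exact one_ne_zero hb
    refine ⟨s, b' - 2 * s⁻¹, s * s / (b' - 2 * s⁻¹) ^ q, hb, hs, hs0,
      div_ne_zero (mul_ne_zero hs0 hs0) (pow_ne_zero _ hb0), ?_, ?_⟩
    · intro h3; omega
    · intro _
      refine ⟨rfl, ?_⟩
      rw [sub_add_cancel]
      exact hgen
  · -- `b := cc`, `a := ψ0 s² / b^q`
    obtain ⟨b, hb⟩ := Cfsg.Agent.SU3G.nt_trace (F := F) hF.out
    obtain ⟨ψ, hψ0, hgen⟩ := h1_exists_gen (F := F)
    have hb0 : b ≠ 0 := by
      rintro rfl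
      rw [zero_pow (by have := one_le_q hF.out; omega), add_zero] at hb
      exact one_ne_zero (by linear_combination hb : (1 : F) = 0)
    have hbq : b ^ q ≠ 0 := pow_ne_zero _ hb0
    refine ⟨s, b, ψ * s * s / b ^ q, by linear_combination hb, hs, hs0,
      div_ne_zero (mul_ne_zero (mul_ne_zero hψ0 hs0) hs0) hbq, ?_, ?_⟩
    · intro _
      have : ψ * s * s / b ^ q * s⁻¹ * s⁻¹ * b ^ q = ψ := by
        field_simp
      rw [this]
      exact hgen
    · intro h; exact absurd h hm2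

variable {m : ℕ} {e f : ℕ → Fin N → F} {d : Fin N → F}

/-- `u1` is regular unipotent (the stub `u1_regular` of the blueprint). -/
theorem h9_u1_regular (fr : OFrame q N m e f d) (hN : N = 2 * m + 1) (hm : 2 ≤ m) {b : F}
    (hb : b + b ^ q + 1 = 0) :
    IsNilpotent (mt (u1 q e f d m b) - 1) ∧ (mt (u1 q e f d m b) - 1) ^ (N - 1) ≠ 0 :=
  h9_regular_of_tables fr hN hm _ b (h4_u1_e fr hm hb) (h4_u1_d fr hm hb) (h4_u1_f_last fr hm hb)
    (h4_u1_f fr hm hb)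

/-- for any hyperbolic frame: `u1` is regular unipotent and `u1`, `xr 0 a * u1 * (xr 0 a)⁻¹`,
`n0 m * u1 * (n0 m)⁻¹` generate. -/
theorem h9_gen_frame (fr : OFrame q N m e f d) (hN : N = 2 * m + 1) (hm : 2 ≤ m) :
    ∃ u g h : SU N F q, (IsNilpotent (mt u - 1) ∧ (mt u - 1) ^ (N - 1) ≠ 0) ∧
      Subgroup.closure ({u, g * u * g⁻¹, h * u * h⁻¹} : Set (SU N F q)) = ⊤ := by
  obtain ⟨s, b, a, hb, hs, hs0, ha, h3, h2⟩ := h9_params (F := F) (q := q) m
  refine ⟨u1 q e f d m b, xr q e f 0 a, n0 q e f s m, h9_u1_regular fr hN hm hb, ?_⟩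
  set H : Subgroup (SU N F q) := Subgroup.closure
    ({u1 q e f d m b, xr q e f 0 a * u1 q e f d m b * (xr q e f 0 a)⁻¹,
      n0 q e f s m * u1 q e f d m b * (n0 q e f s m)⁻¹} : Set (SU N F q)) with hH
  have hu1 : u1 q e f d m b ∈ H := Subgroup.subset_closure (by simp)
  have hu2 : xr q e f 0 a * u1 q e f d m b * (xr q e f 0 a)⁻¹ ∈ H :=
    Subgroup.subset_closure (by simp)
  have hu3 : u3 q e f d m s b ∈ H := by
    rw [u3_eq_conj fr hm hb hs hs0]
    exact Subgroup.subset_closure (by simp)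
  have hρ : rho q e f d m b a ∈ H := H.mul_mem hu2 (H.inv_mem hu1)
  exact eq_top_of_mem fr hN hm hb hs hs0 ha h3 h2 hu1 hu3 hρ

/-- S2282 for `n = 2 * m + 1`, `2 ≤ m`. -/
theorem h9_asm (m : ℕ) (hm : 2 ≤ m) :
    ∃ u g h : SU (2 * m + 1) F q,
      (IsNilpotent (mt u - 1) ∧ (mt u - 1) ^ (2 * m + 1 - 1) ≠ 0) ∧
      Subgroup.closure ({u, g * u * g⁻¹, h * u * h⁻¹} : Set (SU (2 * m + 1) F q)) = ⊤ := by
  obtain ⟨lam, cc, hl, hc⟩ := h3_exists_params (F := F) (q := q)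
  exact h9_gen_frame (h3_oframe m lam cc hl hc) rfl hm

end Cfsg.Agent.SUTri

namespace Cfsg.Agent.SUTri

/-- the statement of S2282. -/
theorem h9_S2282 {F : Type*} [Field F] [Fintype F] (q : ℕ) (hF : Fintype.card F = q ^ 2) (n : ℕ)
    (hn : 3 ≤ n) (hodd : Odd n) (h32 : ¬ (n = 3 ∧ q = 2)) :
    ∃ u g h : ↥(Cfsg.SU n F q), (IsNilpotent (((u : Matrix.SpecialLinearGroup (Fin n) F) : Matrix (Fin n) (Fin n) F) - 1) ∧ (((u : Matrix.SpecialLinearGroup (Fin n) F) : Matrix (Fin n) (Fin n) F) - 1) ^ (n - 1) ≠ 0) ∧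
      Subgroup.closure ({u, g * u * g⁻¹, h * u * h⁻¹} : Set ↥(Cfsg.SU n F q)) = ⊤ := by
  obtain ⟨m, rfl⟩ := hodd
  rcases Nat.lt_or_ge m 2 with hm | hm
  · obtain rfl : m = 1 := by omega
    exact l_n3_case q hF (fun h => h32 ⟨rfl, h⟩)
  · haveI : Fact (Fintype.card F = q ^ 2) := ⟨hF⟩
    exact h9_asm (F := F) (q := q) m hm

end Cfsg.Agent.SUTri
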