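import Mathlib
import Cfsg.Agent.SUTri.Elts
import Cfsg.Agent.SUTri.H4_U3
import Cfsg.Agent.SUTri.H4_U1tab

set_option autoImplicit false
set_option linter.unusedSectionVars false
set_option linter.unusedVariables false

/-!
# S2282 swarm, slice of BIG (helper3): the `m = 2` branch of `rho` and `k = u3⁻¹ rho u3`
-/

namespace Cfsg.Agent.SUTri

open Matrix Cfsg Cfsg.Agent.Helper7.Herm Cfsg.Agent.Helper8.GUOrder Cfsg.Agent.Helper8.SURoot

variable {F : Type*} [Field F] [Fintype F] {q N : ℕ} [hF : Fact (Fintype.card F = q ^ 2)]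
variable {m : ℕ} {e f : ℕ → Fin N → F} {d : Fin N → F}

/-! ### General lemmas -/

theorem h3_herm_sum_left {ι : Type*} (s : Finset ι) (g : ι → Fin N → F) (y : Fin N → F) :
    hermForm N F q (∑ i ∈ s, g i) y = ∑ i ∈ s, hermForm N F q (g i) y := by
  classical
  induction s using Finset.induction_on with
  | empty => rw [Finset.sum_empty, Finset.sum_empty, hermForm_zero_left]
  | insert a s ha ih => rw [Finset.sum_insert ha, Finset.sum_insert ha, hermForm_add_left, ih]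

theorem h3_herm_sum_right {ι : Type*} (s : Finset ι) (g : ι → Fin N → F) (x : Fin N → F) :
    hermForm N F q x (∑ i ∈ s, g i) = ∑ i ∈ s, hermForm N F q x (g i) := by
  classical
  induction s using Finset.induction_on with
  | empty => rw [Finset.sum_empty, Finset.sum_empty, hermForm_zero_right]
  | insert a s ha ih =>
    rw [Finset.sum_insert ha, Finset.sum_insert ha, hermForm_add_right hF.out, ih]

/-- conjugating a Siegel element by `g⁻¹`. -/
theorem h3_inv_conj_Sg (g : SU N F q) {p w : Fin N → F} {c : F} (h : SgOK q p w c) :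
    g⁻¹ * Sg q p w c * g = Sg q (mt g⁻¹ *ᵥ p) (mt g⁻¹ *ᵥ w) c := by
  have := conj_Sg g⁻¹ h
  rwa [inv_inv] at this

theorem h3_herm_inv_left (g : SU N F q) (a b : Fin N → F) :
    hermForm N F q (mt g⁻¹ *ᵥ a) b = hermForm N F q a (mt g *ᵥ b) := by
  conv_lhs => rw [← herm_mt g, mt_inv_mulVec]

theorem h3_herm_inv_right (g : SU N F q) (a b : Fin N → F) :
    hermForm N F q a (mt g⁻¹ *ᵥ b) = hermForm N F q (mt g *ᵥ a) b := by
  conv_lhs => rw [← herm_mt g, mt_inv_mulVec]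

/-- the action of `g⁻¹ * Sg p w c * g`. -/
theorem h3_conj_mulVec (g : SU N F q) {p w : Fin N → F} {c : F} (h : SgOK q p w c)
    (x : Fin N → F) :
    mt (g⁻¹ * Sg q p w c * g) *ᵥ x = x + hermForm N F q (mt g *ᵥ x) p • (mt g⁻¹ *ᵥ w)
      - hermForm N F q (mt g *ᵥ x) w • (mt g⁻¹ *ᵥ p)
      + (c * hermForm N F q (mt g *ᵥ x) p) • (mt g⁻¹ *ᵥ p) := by
  rw [h3_inv_conj_Sg g h, Sg_mulVec (h.map g⁻¹), h3_herm_inv_right, h3_herm_inv_right]

/-- pairing `(g⁻¹ * Sg p w c * g) x - x` with a vector `v`. -/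
theorem h3_conj_herm (g : SU N F q) {p w : Fin N → F} {c : F} (h : SgOK q p w c)
    (x v : Fin N → F) :
    hermForm N F q (mt (g⁻¹ * Sg q p w c * g) *ᵥ x - x) v
      = hermForm N F q (mt g *ᵥ x) p * hermForm N F q w (mt g *ᵥ v)
        - hermForm N F q (mt g *ᵥ x) w * hermForm N F q p (mt g *ᵥ v)
        + c * hermForm N F q (mt g *ᵥ x) p * hermForm N F q p (mt g *ᵥ v) := by
  rw [h3_conj_mulVec g h]
  have e : ∀ A B C : Fin N → F, x + A - B + C - x = A - B + C := fun A B C => by abel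
  rw [e, hermForm_add_left, hermForm_sub_left, hermForm_smul_left, hermForm_smul_left,
    hermForm_smul_left, h3_herm_inv_left, h3_herm_inv_left]

/-- a conjugate `g⁻¹ * Sg p w c * g` fixes `x` as soon as `g x ⟂ p, w`. -/
theorem h3_conj_fix (g : SU N F q) {p w : Fin N → F} {c : F} (h : SgOK q p w c)
    (x : Fin N → F) (h1 : hermForm N F q (mt g *ᵥ x) p = 0)
    (h2 : hermForm N F q (mt g *ᵥ x) w = 0) :
    mt (g⁻¹ * Sg q p w c * g) *ᵥ x = x := by
  rw [h3_conj_mulVec g h, h1, h2, mul_zero, zero_smul, zero_smul, add_zero, sub_zero,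
    add_zero]

/-! ### The commutator of a short root element with an element fixing its centre -/

/-- for `u` fixing `p`: `Sh p v a * u * (Sh p v a)⁻¹ * u⁻¹` is a Siegel element with centre `p`. -/
theorem h3_comm_Sh {p v : Fin N → F} (hp : hermForm N F q p p = 0) (hv : hermForm N F q v v = 0)
    (hvp : hermForm N F q v p = 0) (u : SU N F q) (hu : mt u *ᵥ p = p) (a : F) :
    Sh q p v a * u * (Sh q p v a)⁻¹ * u⁻¹
      = Sg q p (a ^ q • (mt u *ᵥ v - v)) (a * a ^ q * hermForm N F q (mt u *ᵥ v) v)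
    ∧ SgOK q p (a ^ q • (mt u *ᵥ v - v)) (a * a ^ q * hermForm N F q (mt u *ᵥ v) v) := by
  have h0 := SgOK.short hp hv hvp a
  have h1 := h0.neg
  have h2 := h1.map u
  rw [hu] at h2
  have e : Sh q p v a * u * (Sh q p v a)⁻¹ * u⁻¹
      = Sg q p (-(a ^ q) • v) 0 * (u * (Sg q p (-(a ^ q) • v) 0)⁻¹ * u⁻¹) := by
    unfold Sh
    group
  have ev : -(a ^ q) • v + mt u *ᵥ (-(-(a ^ q) • v)) = a ^ q • (mt u *ᵥ v - v) := by
    rw [neg_smul, neg_neg, mulVec_smul]
    module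
  have ec : (0 : F) + (-0 - hermForm N F q (-(a ^ q) • v) (-(a ^ q) • v))
      - hermForm N F q (mt u *ᵥ (-(-(a ^ q) • v))) (-(a ^ q) • v)
      = a * a ^ q * hermForm N F q (mt u *ᵥ v) v := by
    simp only [neg_smul, neg_neg, mulVec_smul, herm_neg_left, herm_neg_right,
      hermForm_smul_left, hermForm_smul_right, hv, pow_q_pow_q hF.out]
    ring
  have ok := h0.add h2
  rw [ev, ec] at ok
  refine ⟨?_, ok⟩
  rw [e, Sg_inv h0, conj_Sg u h1, hu, Sg_mul h0 h2, ev, ec]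

/-! ### `rho` for `m = 2` -/

theorem h3_u1_e0 (fr : OFrame q N m e f d) (hm : 2 ≤ m) {b : F} (hb : b + b ^ q + 1 = 0) :
    mt (u1 q e f d m b) *ᵥ e 0 = e 0 := by
  rw [h4_u1_e fr hm hb 0 (by omega), Finset.sum_range_one]

/-- `rho` for `m = 2`. -/
theorem h3_rho_two (fr : OFrame q N 2 e f d) {b : F} (hb : b + b ^ q + 1 = 0) (a : F) :
    rho q e f d 2 b a = Sg q (e 0) (a ^ q • (d + b • (e 0 + e 1))) (a * a ^ q * b)
      ∧ SgOK q (e 0) (a ^ q • (d + b • (e 0 + e 1))) (a * a ^ q * b) := by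
  have h := h3_comm_Sh (fr.ee 0 0 (by omega) (by omega)) (fr.ff 1 1 (by omega) (by omega))
    (by rw [fr.fe 1 0 (by omega) (by omega), if_neg (by omega)]) (u1 q e f d 2 b)
    (h3_u1_e0 fr (by omega) hb) a
  have hu := h4_u1_f_last fr (le_refl 2) hb
  have e0 : (2 : ℕ) - 1 = 1 := rfl
  rw [e0, Finset.sum_range_succ, Finset.sum_range_one] at hu
  have e1 : mt (u1 q e f d 2 b) *ᵥ f 1 - f 1 = d + b • (e 0 + e 1) := by
    rw [hu]
    abel
  have e2 : hermForm N F q (mt (u1 q e f d 2 b) *ᵥ f 1) (f 1) = b := by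
    rw [hu, hermForm_add_left, hermForm_add_left, hermForm_smul_left, hermForm_add_left,
      fr.ff 1 1 (by omega) (by omega), fr.df 1 (by omega), fr.ef 0 1 (by omega) (by omega),
      fr.ef 1 1 (by omega) (by omega), if_neg (by omega), if_pos rfl]
    ring
  rw [e1, e2] at h
  exact h

/-! ### `k = u3⁻¹ rho u3` for `m = 2` -/

theorem h3_k_two (fr : OFrame q N 2 e f d) {s b a : F} (hb : b + b ^ q + 1 = 0)
    (hs : s ^ q + s = 0) (hs0 : s ≠ 0) (ha : a = s * s / b ^ q) :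
    mt ((u3 q e f d 2 s b)⁻¹ * rho q e f d 2 b a * u3 q e f d 2 s b) *ᵥ e 0 = e 0
    ∧ (∃ x0 x1 x2 x3 : F,
        mt ((u3 q e f d 2 s b)⁻¹ * rho q e f d 2 b a * u3 q e f d 2 s b) *ᵥ e 1 - e 1
          = x0 • e 0 + x1 • e 1 + x2 • d + x3 • f 1)
    ∧ hermForm N F q
        (mt ((u3 q e f d 2 s b)⁻¹ * rho q e f d 2 b a * u3 q e f d 2 s b) *ᵥ e 1 - e 1) (e 1)
        = b + 2 * s⁻¹ := by
  have t_e0e0 : hermForm N F q (e 0) (e 0) = 0 := fr.ee 0 0 (by omega) (by omega)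
  have t_e0e1 : hermForm N F q (e 0) (e 1) = 0 := fr.ee 0 1 (by omega) (by omega)
  have t_e0f0 : hermForm N F q (e 0) (f 0) = 1 := by rw [fr.ef 0 0 (by omega) (by omega), if_pos rfl]
  have t_e0f1 : hermForm N F q (e 0) (f 1) = 0 := by rw [fr.ef 0 1 (by omega) (by omega), if_neg (by omega)]
  have t_e0d : hermForm N F q (e 0) (d) = 0 := fr.ed 0 (by omega)
  have t_e1e0 : hermForm N F q (e 1) (e 0) = 0 := fr.ee 1 0 (by omega) (by omega)
  have t_e1e1 : hermForm N F q (e 1) (e 1) = 0 := fr.ee 1 1 (by omega) (by omega)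
  have t_e1f0 : hermForm N F q (e 1) (f 0) = 0 := by rw [fr.ef 1 0 (by omega) (by omega), if_neg (by omega)]
  have t_e1f1 : hermForm N F q (e 1) (f 1) = 1 := by rw [fr.ef 1 1 (by omega) (by omega), if_pos rfl]
  have t_e1d : hermForm N F q (e 1) (d) = 0 := fr.ed 1 (by omega)
  have t_f0e0 : hermForm N F q (f 0) (e 0) = 1 := by rw [fr.fe 0 0 (by omega) (by omega), if_pos rfl]
  have t_f0e1 : hermForm N F q (f 0) (e 1) = 0 := by rw [fr.fe 0 1 (by omega) (by omega), if_neg (by omega)]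
  have t_f0f0 : hermForm N F q (f 0) (f 0) = 0 := fr.ff 0 0 (by omega) (by omega)
  have t_f0f1 : hermForm N F q (f 0) (f 1) = 0 := fr.ff 0 1 (by omega) (by omega)
  have t_f0d : hermForm N F q (f 0) (d) = 0 := fr.fd 0 (by omega)
  have t_f1e0 : hermForm N F q (f 1) (e 0) = 0 := by rw [fr.fe 1 0 (by omega) (by omega), if_neg (by omega)]
  have t_f1e1 : hermForm N F q (f 1) (e 1) = 1 := by rw [fr.fe 1 1 (by omega) (by omega), if_pos rfl]
  have t_f1f0 : hermForm N F q (f 1) (f 0) = 0 := fr.ff 1 0 (by omega) (by omega)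
  have t_f1f1 : hermForm N F q (f 1) (f 1) = 0 := fr.ff 1 1 (by omega) (by omega)
  have t_f1d : hermForm N F q (f 1) (d) = 0 := fr.fd 1 (by omega)
  have t_de0 : hermForm N F q (d) (e 0) = 0 := fr.de 0 (by omega)
  have t_de1 : hermForm N F q (d) (e 1) = 0 := fr.de 1 (by omega)
  have t_df0 : hermForm N F q (d) (f 0) = 0 := fr.df 0 (by omega)
  have t_df1 : hermForm N F q (d) (f 1) = 0 := fr.df 1 (by omega)
  have t_dd : hermForm N F q d d = 1 := fr.dd
  obtain ⟨hρ, hok⟩ := h3_rho_two fr hb a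
  rw [hρ]
  -- the action of `u3` on `e 0`, `e 1`
  have hX0 : mt (u3 q e f d 2 s b) *ᵥ e 0 = e 0 - e 1 := u3_e fr (le_refl 2) hb hs hs0 0 (by omega)
  have hX1 : mt (u3 q e f d 2 s b) *ᵥ e 1 = e 1 + s⁻¹ • d - (b * s⁻¹ * s⁻¹) • (f 0 + f 1) := by
    have := u3_e_last fr (le_refl 2) hb hs hs0
    have e0 : (2 : ℕ) - 1 = 1 := rfl
    rwa [e0, Finset.sum_range_succ, Finset.sum_range_one] at this
  have hsq : (s⁻¹) ^ q = -s⁻¹ := h4_inv_pow_q hs
  have hb0 : b ≠ 0 := by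
    rintro rfl
    have hq : q ≠ 0 := by
      have := one_le_q hF.out
      omega
    rw [zero_pow hq] at hb
    simp at hb
  have hbq0 : b ^ q ≠ 0 := pow_ne_zero q hb0
  have haq : a ^ q = s * s / b := by
    rw [ha, div_pow, mul_pow, pow_q_pow_q hF.out]
    have : s ^ q = -s := by linear_combination hs
    rw [this]
    ring
  -- the basic pairings
  have p1 : hermForm N F q (e 0 - e 1) (e 0) = 0 := by
    rw [hermForm_sub_left, t_e0e0, t_e1e0, sub_zero]
  have p2 : hermForm N F q (e 0 - e 1) (a ^ q • (d + b • (e 0 + e 1))) = 0 := by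
    simp only [hermForm_sub_left, hermForm_smul_right, hermForm_add_right hF.out, t_e0d, t_e1d,
      t_e0e0, t_e0e1, t_e1e0, t_e1e1]
    ring
  have p3 : hermForm N F q (a ^ q • (d + b • (e 0 + e 1))) (e 0 - e 1) = 0 := by
    simp only [hermForm_sub_right hF.out, hermForm_smul_left, hermForm_add_left, t_de0, t_de1,
      t_e0e0, t_e0e1, t_e1e0, t_e1e1]
    ring
  have p4 : hermForm N F q (e 0) (e 0 - e 1) = 0 := by
    rw [hermForm_sub_right hF.out, t_e0e0, t_e0e1, sub_zero]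
  have q1 : hermForm N F q (e 1 + s⁻¹ • d - (b * s⁻¹ * s⁻¹) • (f 0 + f 1)) (e 0)
      = -(b * s⁻¹ * s⁻¹) := by
    simp only [hermForm_sub_left, hermForm_add_left, hermForm_smul_left, t_e1e0, t_de0, t_f0e0,
      t_f1e0]
    ring
  have q2 : hermForm N F q (e 1 + s⁻¹ • d - (b * s⁻¹ * s⁻¹) • (f 0 + f 1))
      (a ^ q • (d + b • (e 0 + e 1))) = a * (s⁻¹ - 2 * b * b ^ q * s⁻¹ * s⁻¹) := by
    simp only [hermForm_sub_left, hermForm_add_left, hermForm_smul_left, hermForm_smul_right,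
      hermForm_add_right hF.out, t_e1e0, t_e1e1, t_e1d, t_de0, t_de1, t_dd, t_f0e0, t_f0e1, t_f0d,
      t_f1e0, t_f1e1, t_f1d, pow_q_pow_q hF.out]
    ring
  have q3 : hermForm N F q (a ^ q • (d + b • (e 0 + e 1)))
      (e 1 + s⁻¹ • d - (b * s⁻¹ * s⁻¹) • (f 0 + f 1))
      = a ^ q * (-s⁻¹ - 2 * b * b ^ q * s⁻¹ * s⁻¹) := by
    simp only [hermForm_sub_right hF.out, hermForm_add_right hF.out, hermForm_smul_right,
      hermForm_smul_left, hermForm_add_left, t_e0e1, t_e1e1, t_de1, t_e0d, t_e1d, t_dd, t_e0f0,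
      t_e0f1, t_e1f0, t_e1f1, t_df0, t_df1, mul_pow, hsq]
    ring
  have q4 : hermForm N F q (e 0) (e 1 + s⁻¹ • d - (b * s⁻¹ * s⁻¹) • (f 0 + f 1))
      = -(b ^ q * s⁻¹ * s⁻¹) := by
    simp only [hermForm_sub_right hF.out, hermForm_add_right hF.out, hermForm_smul_right,
      t_e0e1, t_e0d, t_e0f0, t_e0f1, mul_pow, hsq]
    ring
  refine ⟨?_, ?_, ?_⟩
  · exact h3_conj_fix _ hok _ (by rw [hX0]; exact p1) (by rw [hX0]; exact p2)
  · -- no `f 0`-component since the difference is orthogonal to `e 0`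
    have hperp : hermForm N F q
        (mt ((u3 q e f d 2 s b)⁻¹ * Sg q (e 0) (a ^ q • (d + b • (e 0 + e 1))) (a * a ^ q * b)
          * u3 q e f d 2 s b) *ᵥ e 1 - e 1) (e 0) = 0 := by
      rw [h3_conj_herm _ hok, hX0, p3, p4]
      ring
    generalize mt ((u3 q e f d 2 s b)⁻¹
      * Sg q (e 0) (a ^ q • (d + b • (e 0 + e 1))) (a * a ^ q * b)
      * u3 q e f d 2 s b) *ᵥ e 1 - e 1 = Y at hperp ⊢
    have hex := fr.expand Y
    rw [Finset.sum_range_succ, Finset.sum_range_one, hperp, zero_smul, add_zero] at hex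
    refine ⟨hermForm N F q Y (f 0), hermForm N F q Y (f 1), hermForm N F q Y d,
      hermForm N F q Y (e 1), hex.trans ?_⟩
    abel
  · rw [h3_conj_herm _ hok, hX1, q1, q2, q3, q4, haq, ha]
    field_simp
    ring

end Cfsg.Agent.SUTri
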