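import Mathlib
import Cfsg.Agent.SUTri.Base

set_option autoImplicit false
set_option linter.unusedSectionVars false
set_option linter.unusedVariables false

namespace Cfsg.Agent.SUTri

open Matrix Cfsg Cfsg.Agent.Helper7.Herm Cfsg.Agent.Helper8.GUOrder Cfsg.Agent.Helper8.SURoot

variable {F : Type*} [Field F] [Fintype F] {q N : ℕ} [hF : Fact (Fintype.card F = q ^ 2)]

/-- general commutator formula (any `u` fixing `p`). -/
theorem h4_comm_Sh {p v : Fin N → F} (hp : hermForm N F q p p = 0) (hv : hermForm N F q v v = 0)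
    (hvp : hermForm N F q v p = 0) (u : SU N F q) (hu : mt u *ᵥ p = p) (a : F) :
    Sh q p v a * u * (Sh q p v a)⁻¹ * u⁻¹
      = Sg q p (a ^ q • (mt u *ᵥ v - v)) (a * a ^ q * hermForm N F q (mt u *ᵥ v) v)
    ∧ SgOK q p (a ^ q • (mt u *ᵥ v - v)) (a * a ^ q * hermForm N F q (mt u *ᵥ v) v) := by
  have hok : SgOK q p (-(a ^ q) • v) 0 := SgOK.short hp hv hvp a
  have hok' := hok.neg
  have hmap := hok'.map u
  have hconj := conj_Sg u hok'
  rw [hu] at hmap hconj
  have hadd := hok.add hmap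
  have hmul := Sg_mul hok hmap
  have e1 : -(a ^ q) • v + mt u *ᵥ (-(-(a ^ q) • v)) = a ^ q • (mt u *ᵥ v - v) := by
    rw [mulVec_neg, mulVec_smul]
    module
  have e2 : (0 : F) + (-0 - hermForm N F q (-(a ^ q) • v) (-(a ^ q) • v))
      - hermForm N F q (mt u *ᵥ (-(-(a ^ q) • v))) (-(a ^ q) • v)
      = a * a ^ q * hermForm N F q (mt u *ᵥ v) v := by
    rw [mulVec_neg, mulVec_smul, herm_neg_left, hermForm_smul_left, hermForm_smul_left,
      hermForm_smul_right, hermForm_smul_right, hv, neg_pow_q hF.out, pow_q_pow_q hF.out]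
    ring
  rw [e1, e2] at hadd hmul
  refine ⟨?_, hadd⟩
  rw [← hmul, ← hconj]
  unfold Sh
  rw [Sg_inv hok]
  group

end Cfsg.Agent.SUTri
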