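import Mathlib
import Cfsg.Agent.SUTri.H4_U1tab
import Cfsg.Agent.SUTri.H9_U1Reg

set_option autoImplicit false
set_option linter.unusedSectionVars false
set_option linter.unusedVariables false

/-!
# S2282 swarm (helper6), piece ACT1: the commutator formula `comm_Sh`, and the ACT1 stub names

`comm_Sh` : for `u` fixing the isotropic `p`, `Sh p v a * u * (Sh p v a)⁻¹ * u⁻¹ = Sg p (a^q • (u v − v)) (a a^q h(u v, v))`.
The action tables of `u1` are helper4's (`H4_U1tab`), its regularity is helper9's (`H9_U1Reg`); they are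
restated here under the names of `notes/S2282_stubs_helper8.lean.txt`.
-/

namespace Cfsg.Agent.SUTri

open Matrix Cfsg Cfsg.Agent.Helper7.Herm Cfsg.Agent.Helper8.GUOrder Cfsg.Agent.Helper8.SURoot

variable {F : Type*} [Field F] [Fintype F] {q N : ℕ} [hF : Fact (Fintype.card F = q ^ 2)]
variable {m : ℕ} {e f : ℕ → Fin N → F} {d : Fin N → F}

/-- general commutator formula (any `u` fixing `p`). -/
theorem comm_Sh {p v : Fin N → F} (hp : hermForm N F q p p = 0) (hv : hermForm N F q v v = 0)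
    (hvp : hermForm N F q v p = 0) (u : SU N F q) (hu : mt u *ᵥ p = p) (a : F) :
    Sh q p v a * u * (Sh q p v a)⁻¹ * u⁻¹
      = Sg q p (a ^ q • (mt u *ᵥ v - v)) (a * a ^ q * hermForm N F q (mt u *ᵥ v) v)
    ∧ SgOK q p (a ^ q • (mt u *ᵥ v - v)) (a * a ^ q * hermForm N F q (mt u *ᵥ v) v) := by
  have h1 : SgOK q p (-(a ^ q) • v) 0 := SgOK.short hp hv hvp a
  have h2 := h1.neg
  have h3 := h2.map u
  rw [hu] at h3
  have h4 := h1.add h3
  have key : Sh q p v a * u * (Sh q p v a)⁻¹ * u⁻¹ =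
      Sg q p (-(a ^ q) • v) 0 * (u * (Sg q p (-(a ^ q) • v) 0)⁻¹ * u⁻¹) := by
    unfold Sh; group
  have e1 : -(a ^ q) • v + mt u *ᵥ (-(-(a ^ q) • v)) = a ^ q • (mt u *ᵥ v - v) := by
    rw [neg_smul, neg_neg, mulVec_smul, smul_sub]
    abel
  have e2 : (0 : F) + (-0 - hermForm N F q (-(a ^ q) • v) (-(a ^ q) • v))
      - hermForm N F q (mt u *ᵥ (-(-(a ^ q) • v))) (-(a ^ q) • v)
      = a * a ^ q * hermForm N F q (mt u *ᵥ v) v := by
    rw [neg_smul, neg_neg, mulVec_smul, herm_neg_left, herm_neg_right, hermForm_smul_left,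
      hermForm_smul_right, hermForm_smul_left, herm_neg_right, hermForm_smul_right, hv,
      pow_q_pow_q hF.out]
    ring
  rw [e1, e2] at h4
  refine ⟨?_, h4⟩
  rw [key, Sg_inv h1, conj_Sg u h2, hu, Sg_mul h1 h3, e1, e2]

/-! ### the ACT1 stub names -/

theorem u1_e (fr : OFrame q N m e f d) (hm : 2 ≤ m) {b : F} (hb : b + b ^ q + 1 = 0) (j : ℕ)
    (hj : j < m) : mt (u1 q e f d m b) *ᵥ e j = ∑ i ∈ Finset.range (j + 1), e i :=
  h4_u1_e fr hm hb j hj

theorem u1_d (fr : OFrame q N m e f d) (hm : 2 ≤ m) {b : F} (hb : b + b ^ q + 1 = 0) :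
    mt (u1 q e f d m b) *ᵥ d = d - ∑ i ∈ Finset.range m, e i :=
  h4_u1_d fr hm hb

theorem u1_f_last (fr : OFrame q N m e f d) (hm : 2 ≤ m) {b : F} (hb : b + b ^ q + 1 = 0) :
    mt (u1 q e f d m b) *ᵥ f (m - 1) = f (m - 1) + d + b • ∑ i ∈ Finset.range m, e i :=
  h4_u1_f_last fr hm hb

theorem u1_f (fr : OFrame q N m e f d) (hm : 2 ≤ m) {b : F} (hb : b + b ^ q + 1 = 0) (j : ℕ)
    (hj : j + 1 < m) : mt (u1 q e f d m b) *ᵥ f j = f j - f (j + 1) :=
  h4_u1_f fr hm hb j hj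

theorem u1_regular (fr : OFrame q N m e f d) (hN : N = 2 * m + 1) (hm : 2 ≤ m) {b : F}
    (hb : b + b ^ q + 1 = 0) :
    IsNilpotent (mt (u1 q e f d m b) - 1) ∧ (mt (u1 q e f d m b) - 1) ^ (N - 1) ≠ 0 :=
  h9_regular_of_tables fr hN hm _ b (h4_u1_e fr hm hb) (h4_u1_d fr hm hb) (h4_u1_f_last fr hm hb)
    (h4_u1_f fr hm hb)

end Cfsg.Agent.SUTri
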