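import Mathlib
import Cfsg.Agent.SUTri.H7_Orb
import Cfsg.Agent.SUTri.H4_U3

/-!
# S2282 swarm (helper7): the last step of MAIN

`h(u3 e_{m-1}, e_{m-1}) = −b s⁻² ≠ 0`, hence `Big H (e 0)` and `u3 ∈ H` give `H = ⊤`.
-/

set_option autoImplicit false
set_option linter.unusedSectionVars false

namespace Cfsg.Agent.SUTri

open Matrix Cfsg Cfsg.Agent.Helper7.Herm Cfsg.Agent.Helper8.GUOrder Cfsg.Agent.Helper8.SURoot

variable {F : Type*} [Field F] [Fintype F] {q N : ℕ} [hF : Fact (Fintype.card F = q ^ 2)]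
variable {m : ℕ} {e f : ℕ → Fin N → F} {d : Fin N → F}

theorem h7_herm_sum_left {κ : Type*} (S : Finset κ) (v : κ → Fin N → F) (y : Fin N → F) :
    hermForm N F q (∑ i ∈ S, v i) y = ∑ i ∈ S, hermForm N F q (v i) y := by
  classical
  induction S using Finset.induction_on with
  | empty => rw [Finset.sum_empty, Finset.sum_empty, hermForm_zero_left]
  | insert a S ha ih => rw [Finset.sum_insert ha, Finset.sum_insert ha, hermForm_add_left, ih]

theorem h7_b_ne_zero {b : F} (hb : b + b ^ q + 1 = 0) : b ≠ 0 := by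
  rintro rfl
  have hq : q ≠ 0 := by
    have := one_le_q hF.out
    omega
  rw [zero_pow hq, zero_add, zero_add] at hb
  exact one_ne_zero hb

/-- `h(u3 e_{m-1}, e_{m-1}) = −b s⁻²` -/
theorem h7_u3_last (fr : OFrame q N m e f d) (hm : 2 ≤ m) {s b : F} (hb : b + b ^ q + 1 = 0)
    (hs : s ^ q + s = 0) (hs0 : s ≠ 0) :
    hermForm N F q (mt (u3 q e f d m s b) *ᵥ e (m - 1)) (e (m - 1)) = -(b * s⁻¹ * s⁻¹) := by
  have hm1 : m - 1 < m := by omega
  rw [u3_e_last fr hm hb hs hs0, hermForm_sub_left, hermForm_add_left, hermForm_smul_left,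
    hermForm_smul_left, fr.ee (m - 1) (m - 1) hm1 hm1, fr.de (m - 1) hm1, h7_herm_sum_left,
    Finset.sum_eq_single (m - 1)]
  · rw [fr.fe (m - 1) (m - 1) hm1 hm1, if_pos rfl]
    ring
  · intro i hi hne
    rw [fr.fe i (m - 1) (Finset.mem_range.mp hi) hm1, if_neg hne]
  · intro h
    exact absurd (Finset.mem_range.mpr hm1) h

theorem h7_u3_last_ne (fr : OFrame q N m e f d) (hm : 2 ≤ m) {s b : F} (hb : b + b ^ q + 1 = 0)
    (hs : s ^ q + s = 0) (hs0 : s ≠ 0) :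
    hermForm N F q (mt (u3 q e f d m s b) *ᵥ e (m - 1)) (e (m - 1)) ≠ 0 := by
  rw [h7_u3_last fr hm hb hs hs0]
  exact neg_ne_zero.mpr (mul_ne_zero (mul_ne_zero (h7_b_ne_zero hb) (inv_ne_zero hs0))
    (inv_ne_zero hs0))

/-- **MAIN from BIG.** -/
theorem h7_eq_top_of_big (fr : OFrame q N m e f d) (hN : N = 2 * m + 1) (hm : 2 ≤ m) {s b : F}
    (hb : b + b ^ q + 1 = 0) (hs : s ^ q + s = 0) (hs0 : s ≠ 0) {H : Subgroup (SU N F q)}
    (hu3 : u3 q e f d m s b ∈ H) (hB : Big H (e 0)) : H = ⊤ :=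
  h7_main fr (by omega) (by omega) (by omega) hB hu3 (fun j hj => u3_e fr hm hb hs hs0 j hj)
    (h7_u3_last_ne fr hm hb hs hs0)

end Cfsg.Agent.SUTri
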