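import Mathlib
import Cfsg.Agent.SUTri.Base
import Cfsg.Agent.SUTri.H7_Crit
import Cfsg.Agent.SU3G.H1_Trace

/-!
# S2282 swarm (helper9): CRIT in the `Full` form of the stubs

* `h9_Big_of_Full` : `Full H p → Big H p` (for an isotropic `p`)
* `crit`           : `Full H p` and an element of `H` moving `p` off its perpendicular give `H = ⊤`
* `crit'`          : the same with two elements of `H`
-/

set_option autoImplicit false
set_option linter.unusedSectionVars false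

namespace Cfsg.Agent.SUTri

open Matrix Cfsg Cfsg.Agent.Helper7.Herm Cfsg.Agent.Helper8.GUOrder Cfsg.Agent.Helper8.SURoot

variable {F : Type*} [Field F] [Fintype F] {q N : ℕ} [hF : Fact (Fintype.card F = q ^ 2)]

/-- `Full` is stronger than `Big`. -/
theorem h9_Big_of_Full {H : Subgroup (SU N F q)} {p : Fin N → F}
    (hp : hermForm N F q p p = 0) (hFull : Full H p) : Big H p := by
  refine ⟨hp, ?_⟩
  intro w hw
  have hfix : (-(hermForm N F q w w)) ^ q = -(hermForm N F q w w) := by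
    rw [Cfsg.Agent.SU3G.h1_su_neg_pow q hF.out, ← hermForm_swap hF.out w w]
  obtain ⟨c, hc⟩ := Cfsg.Agent.SU3G.h1_su_trace_surj q hF.out
    (Cfsg.Agent.SUNG.h7_two_le_q hF.out) _ hfix
  have hOK : SgOK q p w c := ⟨hp, hw, by linear_combination hc⟩
  exact ⟨c, hOK, hFull w c hOK⟩

/-- **CRIT.** -/
theorem crit (hN : 3 ≤ N) (h32 : ¬ (N = 3 ∧ q = 2)) {H : Subgroup (SU N F q)} {p : Fin N → F}
    (hp0 : p ≠ 0) (hp : hermForm N F q p p = 0) (hFull : Full H p) {g : SU N F q} (hg : g ∈ H)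
    (hne : hermForm N F q (mt g *ᵥ p) p ≠ 0) : H = ⊤ :=
  h7_top_of_Big hN h32 hp0 (h9_Big_of_Full hp hFull) ⟨g, hg, hne⟩

/-- CRIT with two elements of `H`. -/
theorem crit' (hN : 3 ≤ N) (h32 : ¬ (N = 3 ∧ q = 2)) {H : Subgroup (SU N F q)} {p : Fin N → F}
    (hp0 : p ≠ 0) (hp : hermForm N F q p p = 0) (hFull : Full H p) {g1 g2 : SU N F q}
    (h1 : g1 ∈ H) (h2 : g2 ∈ H)
    (hne : hermForm N F q (mt g1 *ᵥ p) (mt g2 *ᵥ p) ≠ 0) : H = ⊤ :=
  h7_top_of_Big' hN h32 hp0 (h9_Big_of_Full hp hFull) h1 h2 hne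

end Cfsg.Agent.SUTri
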